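import Mathlib
import Groth.Agent.Lib.Helper5.Curve4.Tors2
import Groth.Agent.Lib.Helper5.Curve4.VB2
import Groth.Agent.Lib.Lead.QC.Push

/-!
# Direct images of vector bundles along dominant morphisms to regular curves are vector bundles;
the fibres of a surjection from a surface to a curve have dimension at most one.
-/

set_option autoImplicit false
universe u
open CategoryTheory CategoryTheory.Limits AlgebraicGeometry TopologicalSpace Opposite

namespace Groth.Agent.H5.Hyper

open Groth.Agent.LD Groth.Agent.LD.QC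

/-- sections of a finite locally free module on an integral scheme are torsion free. -/
theorem eq_zero_of_smul_eq_zero_of_isFinLocFree {X : Scheme.{u}} [IsIntegral X] (L : X.Modules)
    (hL : FlatMod.IsFinLocFree L) {W : X.Opens} (a : Γ(X, W)) (m : Γ(L, W)) (h : a • m = 0)
    (ha : a ≠ 0) : m = 0 := by
  apply section_eq_zero_of_germ
  intro x hx
  haveI : Module.Free (X.presheaf.stalk x) (L.presheaf.stalk x) :=
    free_stalk_of_isFinLocFree L hL x
  have h1 : X.presheaf.germ W x hx a • L.presheaf.germ W x hx m = 0 := by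
    have := germ_smul L x W hx a m
    rw [h, map_zero] at this
    exact this.symm
  haveI : Nonempty W := ⟨⟨x, hx⟩⟩
  have h2 : X.presheaf.germ W x hx a ≠ 0 := fun h0 =>
    ha (germ_injective_of_isIntegral X x hx (h0.trans (map_zero _).symm))
  haveI : Module.IsTorsionFree (X.presheaf.stalk x) (L.presheaf.stalk x) := inferInstance
  exact (smul_eq_zero.mp h1).resolve_left h2

/-- **the direct image of a vector bundle along a dominant morphism from an integral scheme to a
regular integral curve is a vector bundle** (as soon as it is coherent). -/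
theorem isFinLocFree_push_of_dominant {X Y : Scheme.{u}} [IsIntegral X] [IsIntegral Y]
    [IsNoetherian Y] (hdim : topologicalKrullDim Y ≤ 1)
    (hreg : ∀ y : Y, IsRegularLocalRing (Y.presheaf.stalk y))
    (π : X ⟶ Y) [IsDominant π] [QuasiCompact π] (L : X.Modules) (hL : FlatMod.IsFinLocFree L)
    (hcoh : Coh.IsCoh ((Scheme.Modules.pushforward π).obj L)) :
    FlatMod.IsFinLocFree ((Scheme.Modules.pushforward π).obj L) := by
  by_contra hnf
  have h1 : ¬ ∀ y : Y, NoZeroSMulDivisors (Y.presheaf.stalk y)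
      (((Scheme.Modules.pushforward π).obj L).presheaf.stalk y) :=
    fun h => hnf ((Groth.Agent.H1.ReflFree.s1688 Y hreg hdim _ hcoh).mp h)
  push Not at h1
  obtain ⟨y, hy⟩ := h1
  rw [noZeroSMulDivisors_iff] at hy
  push Not at hy
  obtain ⟨c, m₀, hcm, hc, hm₀⟩ := hy
  obtain ⟨hyη, hyc, V, hyV, f, m, hu, hfm, hm⟩ :=
    Groth.Agent.H5.Curve4.exists_torsion_data hdim _ y c m₀ hcm hc hm₀
  have hf : f ≠ 0 := by
    rintro rfl
    have hη : genericPoint Y ∈ (⟨{y}ᶜ, hyc.isOpen_compl⟩ : Y.Opens) ⊓ V := by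
      refine ⟨fun h => hyη (Set.mem_singleton_iff.mp h).symm, ?_⟩
      exact ((genericPoint_spec Y).mem_open_set_iff V.2).mpr ⟨y, by simpa using hyV⟩
    haveI : Nonempty ((⟨{y}ᶜ, hyc.isOpen_compl⟩ : Y.Opens) ⊓ V : Y.Opens) := ⟨⟨_, hη⟩⟩
    have h0 : Groth.Agent.H5.Glue.res (inf_le_right :
        (⟨{y}ᶜ, hyc.isOpen_compl⟩ : Y.Opens) ⊓ V ≤ V) (0 : Γ(Y, V)) = 0 := map_zero _
    rw [h0] at hu
    exact not_isUnit_zero hu
  apply hm
  haveI := IsSchemeTheoreticallyDominant.of_isDominant π
  have ha : π.app V f ≠ 0 := fun h => hf (π.app_injective V (h.trans (map_zero _).symm))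
  have h2 : (π.app V f) • (show Γ(L, π ⁻¹ᵁ V) from m) = 0 := hfm
  exact eq_zero_of_smul_eq_zero_of_isFinLocFree L hL _ _ h2 ha

section Top

variable {X : Type*} [TopologicalSpace X]

/-- a subspace of a quasi-compact `T₀` space of dimension `≤ n + 1` none of whose points is closed
in the ambient space has dimension `≤ n`. -/
theorem dim_subspace_le_of_not_closed [T0Space X] [CompactSpace X] (n : ℕ)
    (hdim : topologicalKrullDim X ≤ ((n + 1 : ℕ) : WithBot ℕ∞)) (S : Set X)
    (hS : ∀ s ∈ S, ¬ IsClosed ({s} : Set X)) : topologicalKrullDim S ≤ (n : WithBot ℕ∞) := by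
  unfold topologicalKrullDim Order.krullDim
  apply iSup_le
  intro p
  let φ : IrreducibleCloseds S → IrreducibleCloseds X :=
    IrreducibleCloseds.map Subtype.val continuous_subtype_val
  have hφ : StrictMono φ := IrreducibleCloseds.map_strictMono_of_isInducing
    Topology.IsInducing.subtypeVal
  let q : LTSeries (IrreducibleCloseds X) := p.map φ hφ
  obtain ⟨s, hs⟩ := p.head.2.nonempty
  have hsq : (s : X) ∈ (q.head : Set X) := by
    change (s : X) ∈ closure (Subtype.val '' (p.head : Set S))
    exact subset_closure ⟨s, hs, rfl⟩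
  have hns := hS s s.2
  obtain ⟨x₀, hx₀, hx₀c⟩ := (isClosed_closure (s := ({(s : X)} : Set X))).exists_closed_singleton
    ⟨s, subset_closure rfl⟩
  have hne : x₀ ≠ s := by
    rintro rfl
    exact hns hx₀c
  let Z₀ : IrreducibleCloseds X := ⟨{x₀}, isIrreducible_singleton, hx₀c⟩
  have hlt : Z₀ < q.head := by
    have hcl : closure ({(s : X)} : Set X) ⊆ (q.head : Set X) :=
      q.head.3.closure_subset_iff.mpr (Set.singleton_subset_iff.mpr hsq)
    refine lt_of_le_of_ne ?_ ?_
    · intro z hz
      rw [show z = x₀ from hz]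
      exact hcl hx₀
    · intro h
      have : (s : X) ∈ (Z₀ : Set X) := by rw [h]; exact hsq
      exact hne (Set.mem_singleton_iff.mp this).symm
  have hlen := Order.LTSeries.length_le_krullDim (q.cons Z₀ hlt)
  have h3 : (((q.cons Z₀ hlt).length : ℕ) : WithBot ℕ∞) ≤ ((n + 1 : ℕ) : WithBot ℕ∞) :=
    hlen.trans hdim
  have h4 : (q.cons Z₀ hlt).length = p.length + 1 := by
    simp [q]
  rw [h4] at h3
  have h5 : p.length + 1 ≤ n + 1 := by exact_mod_cast h3
  have h6 : p.length ≤ n := by omega
  exact_mod_cast h6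

end Top

end Groth.Agent.H5.Hyper
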