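import Mathlib
import Groth.Agent.Lib.Helper5.Hyper.FibA
import Groth.Agent.Lib.Helper5.Gro.GroE
import Groth.Agent.Lib.Helper5.Curve6.IdealInv2
import Groth.Agent.Lib.Helper5.Curve6.RP3
import Groth.Agent.Lib.Helper5.IntN.Surf1
import Groth.Agent.Lib.Lead.QC.CartierDense
import Groth.Agent.Lib.Lead.QC.CartierCompl
import Groth.Agent.Lib.Lead.CohLES.Euler

/-!
# Fibrations over the projective line: auxiliary facts (helper5; S16565)
-/

set_option autoImplicit false
universe u
open CategoryTheory CategoryTheory.Limits AlgebraicGeometry TopologicalSpace Opposite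

namespace Groth.Agent.H5.Hyper

open Groth.Agent.LD Groth.Agent.LD.QC Groth.Agent.H5.Curve2 Groth.Agent.H5.Curve4
  Groth.Agent.H5.Curve6 Groth.Agent.H5.DegC Groth.Agent.H5.Gro Groth.Agent.H5.Snap

section LES

variable (k : Type u) [Field k] {X : Scheme.{u}} [X.Over (Spec (CommRingCat.of k))]
  [IsProper (X ↘ Spec (CommRingCat.of k))]

/-- if `h⁰` is additive on a short exact sequence then `H¹(X₁) ⟶ H¹(X₂)` is injective. -/
theorem finrank_H1_le_of_H0_add {S : ShortComplex X.Modules} (hS : S.ShortExact)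
    (h₁ : Coh.IsCoh S.X₁) (h₂ : Coh.IsCoh S.X₂) (h₃ : Coh.IsCoh S.X₃)
    (h : Module.finrank k (Coh.HH X S.X₂ 0) =
      Module.finrank k (Coh.HH X S.X₁ 0) + Module.finrank k (Coh.HH X S.X₃ 0)) :
    Module.finrank k (Coh.HH X S.X₁ 1) ≤ Module.finrank k (Coh.HH X S.X₂ 1) := by
  haveI := Groth.Agent.S0002.result k X S.X₁ h₁ 0
  haveI := Groth.Agent.S0002.result k X S.X₂ h₂ 0
  haveI := Groth.Agent.S0002.result k X S.X₃ h₃ 0
  haveI := Groth.Agent.S0002.result k X S.X₁ h₁ 1
  haveI := Groth.Agent.S0002.result k X S.X₂ h₂ 1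
  have hf := CL.HHmap_f_injective k hS
  have hker : LinearMap.ker (CL.HHmap k S.g 0) = LinearMap.range (CL.HHmap k S.f 0) := by
    apply le_antisymm
    · intro x hx
      obtain ⟨y, hy⟩ := CL.exact₂ hS k 0 x hx
      exact ⟨y, hy⟩
    · rintro _ ⟨y, rfl⟩
      exact CL.HHmap_g_f k 0 y
  have h1 := LinearMap.finrank_range_add_finrank_ker (CL.HHmap k S.g 0)
  rw [hker, LinearMap.finrank_range_of_inj hf] at h1
  have h2 : Module.finrank k (LinearMap.range (CL.HHmap k S.g 0)) =
      Module.finrank k (Coh.HH X S.X₃ 0) := by omega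
  have hsurj : LinearMap.range (CL.HHmap k S.g 0) = ⊤ := Submodule.eq_top_of_finrank_eq h2
  have hδ : ∀ x₃ : Coh.HH X S.X₃ 0, CL.HHδ hS k 0 x₃ = 0 := by
    intro x₃
    obtain ⟨x₂, rfl⟩ : x₃ ∈ LinearMap.range (CL.HHmap k S.g 0) := by rw [hsurj]; trivial
    exact CL.HHδ_g k hS 0 x₂
  have hinj : Function.Injective (CL.HHmap k S.f 1) := by
    rw [← LinearMap.ker_eq_bot, LinearMap.ker_eq_bot']
    intro x hx
    obtain ⟨x₃, hx₃⟩ := CL.exact₁ hS k 0 x hx
    rw [← hx₃]
    exact hδ x₃
  exact LinearMap.finrank_le_finrank_of_injective hinj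

end LES

section Cartier

variable {X Y : Scheme.{u}}

/-- the inverse image of an effective Cartier divisor under a morphism from an integral scheme
whose generic point is not mapped into the divisor is an effective Cartier divisor. -/
theorem isEffCartierIdeal_comap_of_generic [IsIntegral X] (π : X ⟶ Y) (I : Y.IdealSheafData)
    (hI : BlowUp.IsEffCartierIdeal I) (hgen : π (genericPoint X) ∉ I.support) :
    BlowUp.IsEffCartierIdeal (I.comap π) := by
  intro x'
  obtain ⟨U, V, e, d, hxV, hd, hIU, h⟩ := locPrincipal_comap I hI π x'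
  haveI : Nonempty V.1 := ⟨⟨x', hxV⟩⟩
  refine ⟨V, hxV, π.appLE U.1 V.1 e d, ?_, h⟩
  apply mem_nonZeroDivisors_of_ne_zero
  intro h0
  rw [h0] at h
  have h1 := compl_support_inf_eq_basicOpen (I.comap π) V 0 h
  rw [Scheme.basicOpen_zero] at h1
  have hη : genericPoint X ∈ V.1 :=
    ((genericPoint_spec X).mem_open_set_iff V.1.2).mpr ⟨x', by simpa using hxV⟩
  have h2 : genericPoint X ∈ (I.comap π).support := by
    by_contra hn
    have : genericPoint X ∈ (I.comap π).support.compl ⊓ V.1 := ⟨hn, hη⟩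
    rw [h1] at this
    exact this
  rw [Scheme.IdealSheafData.support_comap] at h2
  exact hgen h2

end Cartier

section P1

variable (k : Type u) [Field k]

lemma nontrivial_P1 : Nontrivial (P1 k) := by
  by_contra hn
  rw [not_nontrivial_iff_subsingleton] at hn
  have h1 := topologicalKrullDim_zero_of_discreteTopology (P1 k)
  rw [Groth.Agent.H5.IntN.dim_projSpace] at h1
  norm_num at h1

/-- a closed point of the projective line is not the generic point. -/
lemma ne_genericPoint_of_isClosed (q : P1 k) (hq : IsClosed ({q} : Set (P1 k))) :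
    q ≠ genericPoint (P1 k) := by
  rintro rfl
  have h1 := (genericPoint_spec (P1 k)).def
  rw [hq.closure_eq] at h1
  haveI := nontrivial_P1 k
  obtain ⟨z, hz⟩ := exists_ne (genericPoint (P1 k))
  have : z ∈ ({genericPoint (P1 k)} : Set (P1 k)) := by rw [h1]; trivial
  exact hz this

/-- `h¹(O(a)) = max(0, -a - 1)`. -/
theorem finrank_H1_O (a : ℤ) :
    Module.finrank k (Coh.HH (P1 k) (O k a) 1) = (-a - 1).toNat := by
  have h2 := Curve.euler_eq_sub k (P1 k) (dim_P1 k) (O k a)
  rw [euler_twist_P1] at h2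
  have h3 := finrank_H0_O k a
  omega

/-- `h¹` of a sum of twisting sheaves. -/
theorem finrank_H1_sigma {r : ℕ} (a : Fin r → ℤ) :
    Module.finrank k (Coh.HH (P1 k) (∐ fun i => O k (a i)) 1) = ∑ i, (-(a i) - 1).toNat := by
  rw [finrank_HH_sigma k (P1 k) _ (fun i => Curve.isCoh_of_rank (rank_O k (a i))) 1]
  exact Finset.sum_congr rfl (fun i _ => finrank_H1_O k (a i))

/-- **on the projective line, `h¹(V(-1)) ≤ h¹(V)` forces both to vanish.** -/
theorem h1_eq_zero_of_le (V : (P1 k).Modules) (hV : FlatMod.IsFinLocFree V)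
    (hle : Module.finrank k (Coh.HH (P1 k) (CohB1.tensorMod V (O k (-1))) 1) ≤
      Module.finrank k (Coh.HH (P1 k) V 1)) :
    Module.finrank k (Coh.HH (P1 k) V 1) = 0 ∧
      Module.finrank k (Coh.HH (P1 k) (CohB1.tensorMod V (O k (-1))) 1) = 0 := by
  obtain ⟨r, hr⟩ := exists_rank hV
  obtain ⟨a, ⟨α⟩⟩ := exists_sigma_iso k r V hr
  have e2 : CohB1.tensorMod V (O k (-1)) ≅ ∐ fun i => O k (-1 + a i) :=
    tensorCommAll _ _ ≪≫ tensorIso' (Iso.refl _) α ≪≫ tensorSigmaIso k (-1) a
  have h1 : Module.finrank k (Coh.HH (P1 k) V 1) = ∑ i, (-(a i) - 1).toNat := by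
    rw [Curve2.finrank_HH_iso k (P1 k) α 1, finrank_H1_sigma]
  have h2 : Module.finrank k (Coh.HH (P1 k) (CohB1.tensorMod V (O k (-1))) 1) =
      ∑ i, (-(-1 + a i) - 1).toNat := by
    rw [Curve2.finrank_HH_iso k (P1 k) e2 1, finrank_H1_sigma]
  rw [h1, h2] at hle
  have hterm : ∀ i, (-(a i) - 1).toNat ≤ (-(-1 + a i) - 1).toNat := fun i => by omega
  have hall : ∀ i, 0 ≤ a i := by
    intro j
    by_contra hj
    have hlt : ∑ i, (-(a i) - 1).toNat < ∑ i, (-(-1 + a i) - 1).toNat :=
      Finset.sum_lt_sum (fun i _ => hterm i) ⟨j, Finset.mem_univ j, by omega⟩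
    omega
  rw [h1, h2]
  constructor
  · apply Finset.sum_eq_zero
    intro i _
    have := hall i
    omega
  · apply Finset.sum_eq_zero
    intro i _
    have := hall i
    omega

/-- the ideal sheaf of a closed point of the projective line over an algebraically closed field
is an effective Cartier divisor isomorphic to `O(-1)`. -/
theorem idealMod_point [IsAlgClosed k] (q : P1 k) (hq : IsClosed ({q} : Set (P1 k))) :
    BlowUp.IsEffCartierIdeal (Scheme.IdealSheafData.vanishingIdeal ⟨{q}, hq⟩) ∧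
      Nonempty (O k (-1) ≅ ClSub.idealMod (Scheme.IdealSheafData.vanishingIdeal ⟨{q}, hq⟩)) := by
  haveI := Curve.isLocallyNoetherian k (P1 k)
  have hD : BlowUp.IsEffCartierIdeal (Scheme.IdealSheafData.vanishingIdeal ⟨{q}, hq⟩) :=
    isEffCartierIdeal_of_isRegularLocalRing (dim_P1 k) q hq (ne_genericPoint_of_isClosed k q hq)
      (regular_stalks k (P1 k) q)
  refine ⟨hD, ?_⟩
  have hinv : PicF.IsInvertible (ClSub.idealMod (Scheme.IdealSheafData.vanishingIdeal ⟨{q}, hq⟩)) :=
    (isInvertible_idealMod_iff _).mpr hD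
  have hv : vI q = Scheme.IdealSheafData.vanishingIdeal ⟨{q}, hq⟩ := by
    change Scheme.IdealSheafData.vanishingIdeal _ = _
    congr 1
    exact Closeds.ext hq.closure_eq
  have hdeg := deg_idealMod_of_isEffCartierIdeal k (P1 k) (dim_P1 k) _ hD
  rw [← hv, finrank_H0_quotMod_vI k (P1 k) q, hv] at hdeg
  exact nonempty_iso_O k _ hinv (-1) (by rw [hdeg]; rfl)

end P1

section Fib

variable {X Y : Scheme.{u}}

/-- the fibres of a closed surjection from an irreducible quasi-compact scheme of dimension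
`n + 1` onto a scheme with at least two points have dimension at most `n`. -/
theorem fiber_dim_le_of_surjective [IrreducibleSpace X] [CompactSpace X] (n : ℕ)
    (hdim : topologicalKrullDim X = ((n + 1 : ℕ) : WithBot ℕ∞)) (π : X ⟶ Y)
    (hcl : IsClosedMap π) (hs : Function.Surjective π) [Nontrivial Y] (y : Y) :
    topologicalKrullDim ↥(π.fiber y) ≤ (n : WithBot ℕ∞) := by
  rw [IsHomeomorph.topologicalKrullDim_eq _ (π.fiberHomeo y).isHomeomorph]
  by_cases hy : IsClosed ({y} : Set Y)
  · apply Groth.Agent.H5.IntN.dim_le_of_ne_univ hdim _ (hy.preimage π.continuous)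
    intro h
    obtain ⟨y', hy'⟩ := exists_ne y
    obtain ⟨x', rfl⟩ := hs y'
    have : x' ∈ π ⁻¹' ({y} : Set Y) := by rw [h]; trivial
    exact hy' this
  · apply dim_subspace_le_of_not_closed n (le_of_eq hdim)
    intro s hs' hcs
    apply hy
    have := hcl _ hcs
    rwa [Set.image_singleton, show π s = y from hs'] at this

end Fib

end Groth.Agent.H5.Hyper
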