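import Mathlib
import Groth.Agent.Lib.Helper5.Hyper.FibB
import Groth.Agent.Lib.Helper5.NegCfg.DegImm
import Groth.Agent.Lib.Helper5.NegCfg.Core
import Groth.Agent.Lib.Helper5.Lim.ModuleIso
import Groth.Agent.Lib.Lead.QC.IdealPull
import Groth.Agent.Lib.Helper5.Curve2.D

/-!
# Ruled surfaces: `C₀ · f = 1` and `f² = 0` (helper5; S12436)
-/

set_option autoImplicit false
universe u
open CategoryTheory CategoryTheory.Limits AlgebraicGeometry TopologicalSpace Opposite

namespace Groth.Agent.H5.Hyper

open Groth.Agent.LD Groth.Agent.LD.QC Groth.Agent.H5.Curve2 Groth.Agent.H5.Curve4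
  Groth.Agent.H5.Curve6 Groth.Agent.H5.DegC Groth.Agent.H5.Snap Groth.Agent.H5.NegCfg
  Groth.Agent.H5.IntN

section Triv

/-- the pullback of an invertible module along a morphism with image in one point is trivial. -/
theorem nonempty_pullback_iso_unit_of_range_subset {F C : Scheme.{u}} (h : F ⟶ C) (A : C.Modules)
    (hA : PicF.IsInvertible A) (y : C) (hy : Set.range h ⊆ {y}) :
    Nonempty ((Scheme.Modules.pullback h).obj A ≅ unitMod F) := by
  obtain ⟨U, hyU, ⟨e⟩⟩ := (isInvertible_iff A).mp hA y
  have hr : Set.range h ⊆ Set.range U.ι := by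
    rw [Scheme.Opens.range_ι]
    intro z hz
    rw [show z = y from hy hz]
    exact hyU
  let g : F ⟶ U := IsOpenImmersion.lift U.ι h hr
  have w : g ≫ U.ι = h := IsOpenImmersion.lift_fac _ _ _
  exact ⟨((Groth.Agent.H5.Lim.pullbackCompIso g U.ι h w).app A).symm ≪≫
    (Scheme.Modules.pullback g).mapIso
      (((Scheme.Modules.restrictFunctorIsoPullback U.ι).app A).symm ≪≫ e) ≪≫
    pullbackFreeModIso g 1 ≪≫ freeModOneIso F⟩

end Triv

section Gen

variable {C : Scheme.{u}} [IsIntegral C]

lemma nontrivial_of_dim_one (hdimC : topologicalKrullDim C = 1) : Nontrivial C := by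
  by_contra hn
  rw [not_nontrivial_iff_subsingleton] at hn
  have h1 := topologicalKrullDim_zero_of_discreteTopology C
  rw [hdimC] at h1
  norm_num at h1

lemma ne_genericPoint_of_isClosed_of_dim_one (hdimC : topologicalKrullDim C = 1) (q : C)
    (hq : IsClosed ({q} : Set C)) : q ≠ genericPoint C := by
  rintro rfl
  have h1 := (genericPoint_spec C).def
  rw [hq.closure_eq] at h1
  haveI := nontrivial_of_dim_one hdimC
  obtain ⟨z, hz⟩ := exists_ne (genericPoint C)
  have : z ∈ ({genericPoint C} : Set C) := by rw [h1]; trivial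
  exact hz this

lemma deg_inst_eq (k : Type u) [Field k] (D : Scheme.{u})
    (i1 i2 : D.Over (Spec (CommRingCat.of k))) (h : i1 = i2) (G : D.Modules) :
    @Curv2.deg k _ D i1 G 1 = @Curv2.deg k _ D i2 G 1 := by
  subst h
  rfl

end Gen

variable (k : Type u) [Field k] [IsAlgClosed k]
  (X : Scheme.{u}) [X.Over (Spec (CommRingCat.of k))] [IsProper (X ↘ Spec (CommRingCat.of k))]
  [IsIntegral X]
  (C : Scheme.{u}) [C.Over (Spec (CommRingCat.of k))] [IsProper (C ↘ Spec (CommRingCat.of k))]
  [IsIntegral C]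

set_option maxHeartbeats 1600000 in
/-- **a section meets a fibre once, and a fibre has self-intersection zero.** -/
theorem ruled_intersections (hdim : topologicalKrullDim X = 2)
    (hreg : ∀ x : X, IsRegularLocalRing (X.presheaf.stalk x))
    (hdimC : topologicalKrullDim C = 1)
    (hregC : ∀ x : C, IsRegularLocalRing (C.presheaf.stalk x))
    (π : X ⟶ C) (hπ : π ≫ (C ↘ Spec (CommRingCat.of k)) = (X ↘ Spec (CommRingCat.of k)))
    (hsurj : Function.Surjective π) (σ : C ⟶ X) (hσ : σ ≫ π = 𝟙 C)
    (y : C) (hy : IsClosed ({y} : Set C)) :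
    FGA.intNum k X 2 ![ClSub.idealMod σ.ker,
        ClSub.idealMod ((Scheme.IdealSheafData.vanishingIdeal ⟨{y}, hy⟩).comap π)]
        (Coh.structureModule X) = 1 ∧
      FGA.intNum k X 2 ![ClSub.idealMod ((Scheme.IdealSheafData.vanishingIdeal ⟨{y}, hy⟩).comap π),
        ClSub.idealMod ((Scheme.IdealSheafData.vanishingIdeal ⟨{y}, hy⟩).comap π)]
        (Coh.structureModule X) = 0 := by
  classical
  haveI := Curve.isLocallyNoetherian k X
  haveI := Curve.isLocallyNoetherian k C
  haveI := nontrivial_of_dim_one hdimC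
  obtain ⟨Iy, hIy⟩ : ∃ I, I = Scheme.IdealSheafData.vanishingIdeal (⟨{y}, hy⟩ : Closeds C) :=
    ⟨_, rfl⟩
  rw [← hIy]
  -- the point is an effective Cartier divisor of degree one
  have hD : BlowUp.IsEffCartierIdeal Iy := by
    rw [hIy]
    exact isEffCartierIdeal_of_isRegularLocalRing hdimC.le y hy
      (ne_genericPoint_of_isClosed_of_dim_one hdimC y hy) (hregC y)
  have hIinv : PicF.IsInvertible (ClSub.idealMod Iy) := (isInvertible_idealMod_iff _).mpr hD
  have hv : vI y = Iy := by
    rw [hIy]
    change Scheme.IdealSheafData.vanishingIdeal _ = _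
    congr 1
    exact Closeds.ext hy.closure_eq
  have hdegI : Curv2.deg k C (ClSub.idealMod Iy) 1 = -1 := by
    have hdeg := deg_idealMod_of_isEffCartierIdeal k C hdimC.le _ hD
    rw [← hv, finrank_H0_quotMod_vI k C y, hv] at hdeg
    rw [hdeg]; rfl
  -- the fibre is an effective Cartier divisor
  have hgen : π (genericPoint X) ∉ Iy.support := by
    intro h
    have h1 : π (genericPoint X) ∈ (Iy.support : Set C) := h
    rw [hIy, Scheme.IdealSheafData.coe_support_vanishingIdeal] at h1
    have h2 : π (genericPoint X) = y := h1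
    have hall : ∀ x : X, π x = y := by
      intro x
      have hcl : IsClosed (π ⁻¹' ({y} : Set C)) := hy.preimage π.continuous
      exact (genericPoint_specializes x).mem_closed hcl h2
    obtain ⟨z, hz⟩ := exists_ne y
    obtain ⟨x, rfl⟩ := hsurj z
    exact hz (hall x)
  have hJ : BlowUp.IsEffCartierIdeal (Iy.comap π) := isEffCartierIdeal_comap_of_generic π Iy hD hgen
  obtain ⟨e₂⟩ := nonempty_pullback_idealMod_iso π Iy hD hJ
  have hsupp : ((Iy.comap π).support : Set X) = π ⁻¹' {y} := by
    rw [Scheme.IdealSheafData.support_comap]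
    change π ⁻¹' (Iy.support : Set C) = _
    rw [hIy, Scheme.IdealSheafData.coe_support_vanishingIdeal]
    rfl
  obtain ⟨J, hJdef⟩ : ∃ J, J = Iy.comap π := ⟨_, rfl⟩
  rw [← hJdef] at hJ e₂ hsupp ⊢
  have hJinv : PicF.IsInvertible (ClSub.idealMod J) := (isInvertible_idealMod_iff _).mpr hJ
  have hJ1 : topologicalKrullDim (J.support : Set X) ≤ 1 := by
    rw [hsupp]
    apply Groth.Agent.H5.IntN.dim_le_of_ne_univ (r := 1) hdim _ (hy.preimage π.continuous)
    intro h
    obtain ⟨z, hz⟩ := exists_ne y
    obtain ⟨x, rfl⟩ := hsurj z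
    have : x ∈ π ⁻¹' ({y} : Set C) := by rw [h]; trivial
    exact hz this
  refine ⟨?_, ?_⟩
  · -- the section
    haveI : IsSeparated π := by
      haveI : IsSeparated (π ≫ (C ↘ Spec (CommRingCat.of k))) := by rw [hπ]; infer_instance
      exact IsSeparated.of_comp π (C ↘ Spec (CommRingCat.of k))
    haveI : IsClosedImmersion σ := by
      haveI : IsClosedImmersion (σ ≫ π) := by rw [hσ]; infer_instance
      exact IsClosedImmersion.of_comp σ π
    obtain ⟨L, hL, ⟨eL⟩⟩ := Groth.Agent.H5.Glue.exists_inverse (ClSub.idealMod J) hJinv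
    have h := intNum_idealMod_ker_eq_deg k X hdim hreg C σ hdimC L (ClSub.idealMod J) hL
      ⟨tensorCommAll L _ ≪≫ eL⟩
    have hσk : σ ≫ (X ↘ Spec (CommRingCat.of k)) = (C ↘ Spec (CommRingCat.of k)) := by
      rw [← hπ, ← Category.assoc, hσ, Category.id_comp]
    have hinst : (⟨σ ≫ (X ↘ Spec (CommRingCat.of k))⟩ : C.Over (Spec (CommRingCat.of k))) =
        (inferInstance : C.Over (Spec (CommRingCat.of k))) := by
      rw [hσk]
      rfl
    rw [h, deg_inst_eq k C _ _ hinst]
    -- the degree of the restriction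
    have hpL := isInvertible_pullback σ hL
    have hpJ := isInvertible_pullback σ hJinv
    have e3 : CohB1.tensorMod ((Scheme.Modules.pullback σ).obj L)
        ((Scheme.Modules.pullback σ).obj (ClSub.idealMod J)) ≅ unitMod C :=
      (pbTensorIso σ L (ClSub.idealMod J) hL hJinv).symm ≪≫
        (Scheme.Modules.pullback σ).mapIso (tensorCommAll L _ ≪≫ eL) ≪≫ pbUnitIso σ
    have e4 : (Scheme.Modules.pullback σ).obj (ClSub.idealMod J) ≅ ClSub.idealMod Iy :=
      (Scheme.Modules.pullback σ).mapIso e₂.symm ≪≫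
        (Groth.Agent.H5.Lim.pullbackCompIso σ π (𝟙 C) hσ).app _ ≪≫
        (Scheme.Modules.pullbackId C).app _
    have h5 := deg_tensor k C hdimC.le hpL hpJ
    rw [Curve.deg_iso k C e3 1, Curve.deg_iso k C e4 1, hdegI] at h5
    have h6 : Curv2.deg k C (unitMod C) 1 = 0 := Curve.deg_structureModule k C
    rw [h6] at h5
    linarith
  · -- the fibre
    have h1 := euler_quotMod_sub_eq_neg_intNum k X hdim (ClSub.idealMod J) hJinv J hJ hJ1
    have h2 := deg_restrict_eq k J 1 (ClSub.idealMod J)
      (Curve.isFinLocFree_of_rank ((isInvertible_iff _).mp hJinv))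
    have hrange : Set.range (J.subschemeι ≫ π) ⊆ {y} := by
      rintro _ ⟨z, rfl⟩
      have hz : J.subschemeι z ∈ (J.support : Set X) := by
        rw [← Scheme.IdealSheafData.range_subschemeι]
        exact ⟨z, rfl⟩
      rw [hsupp] at hz
      exact hz
    obtain ⟨t⟩ := nonempty_pullback_iso_unit_of_range_subset (J.subschemeι ≫ π)
      (ClSub.idealMod Iy) hIinv y hrange
    have e5 : (Scheme.Modules.pullback J.subschemeι).obj (ClSub.idealMod J) ≅
        unitMod J.subscheme :=
      (Scheme.Modules.pullback J.subschemeι).mapIso e₂.symm ≪≫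
        (Groth.Agent.H5.Lim.pullbackCompIso J.subschemeι π _ rfl).app _ ≪≫ t
    letI : J.subscheme.Over (Spec (CommRingCat.of k)) := overOf k J.subschemeι
    have h3 : Curv2.deg k J.subscheme
        ((Scheme.Modules.pullback J.subschemeι).obj (ClSub.idealMod J)) 1 = 0 := by
      rw [Curve.deg_iso k J.subscheme e5 1]
      unfold Curv2.deg
      change Curv2.euler k J.subscheme (Coh.structureModule J.subscheme) - _ = _
      push_cast
      ring
    rw [h3] at h2
    push_cast at h2
    linarith

end Groth.Agent.H5.Hyper
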