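import Mathlib

/-!
# Linear algebra for the Euler characteristic of hypercohomology (helper5; towards S1525)
-/

set_option autoImplicit false
universe u

namespace Groth.Agent.H5.Hyper

section arith

/-- telescoping with alternating signs. -/
lemma telescope_alt (t : ℕ → ℤ) : ∀ d : ℕ,
    ((Finset.range d).sum fun j => (-1 : ℤ) ^ (j + 1) * (t (j + 1) + t j)) =
      (-1 : ℤ) ^ d * t d - t 0
  | 0 => by simp
  | d + 1 => by
    rw [Finset.sum_range_succ, telescope_alt t d]
    ring

/-- telescoping with alternating signs, second form. -/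
lemma telescope_alt' (x : ℕ → ℤ) : ∀ M : ℕ,
    ((Finset.range M).sum fun q => (-1 : ℤ) ^ q * (x q + x (q + 1))) =
      x 0 - (-1 : ℤ) ^ M * x M
  | 0 => by simp
  | M + 1 => by
    rw [Finset.sum_range_succ, telescope_alt' x M]
    ring

/-- the arithmetic of the truncated long exact sequence. -/
lemma arith_T (r s t : ℕ → ℤ) : ∀ d : ℕ,
    ((Finset.range (d + 1)).sum fun j => (-1 : ℤ) ^ j * (s j + t j)) +
      ((Finset.range d).sum fun j => (-1 : ℤ) ^ (j + 1) * (t j + r (j + 1))) -
      ((Finset.range d).sum fun j => (-1 : ℤ) ^ (j + 1) * (r (j + 1) + s (j + 1))) =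
      s 0 + (-1 : ℤ) ^ d * t d
  | 0 => by simp
  | d + 1 => by
    have ih := arith_T r s t d
    rw [Finset.sum_range_succ (fun j => (-1 : ℤ) ^ j * (s j + t j)) (d + 1),
      Finset.sum_range_succ (fun j => (-1 : ℤ) ^ (j + 1) * (t j + r (j + 1))) d,
      Finset.sum_range_succ (fun j => (-1 : ℤ) ^ (j + 1) * (r (j + 1) + s (j + 1))) d]
    linear_combination ih

end arith

variable {k : Type*} [Field k]

section rank

variable {V W U : Type*} [AddCommGroup V] [Module k V] [AddCommGroup W] [Module k W]
  [AddCommGroup U] [Module k U]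

/-- for an exact sequence `V → W → U` with `W` finite dimensional, `dim W` is the sum of the
ranks. -/
lemma finrank_eq_rank_add_rank [Module.Finite k W] (f : V →ₗ[k] W) (g : W →ₗ[k] U)
    (h : LinearMap.ker g = LinearMap.range f) :
    Module.finrank k W =
      Module.finrank k (LinearMap.range f) + Module.finrank k (LinearMap.range g) := by
  have h1 := LinearMap.finrank_range_add_finrank_ker g
  rw [h] at h1
  omega

/-- the filtration lemma: `dim W / v(u(U)) = dim W / v(V) + dim V / u(U)` for injective `v`. -/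
lemma finrank_quot_comp (u : U →ₗ[k] V) (v : V →ₗ[k] W) (hv : Function.Injective v)
    [Module.Finite k (V ⧸ LinearMap.range u)] [Module.Finite k (W ⧸ LinearMap.range v)] :
    Module.Finite k (W ⧸ LinearMap.range (v ∘ₗ u)) ∧
      Module.finrank k (W ⧸ LinearMap.range (v ∘ₗ u)) =
        Module.finrank k (W ⧸ LinearMap.range v) + Module.finrank k (V ⧸ LinearMap.range u) := by
  have hle : LinearMap.range (v ∘ₗ u) ≤ LinearMap.range v := LinearMap.range_comp_le_range u v
  -- the induced maps
  let θ : (V ⧸ LinearMap.range u) →ₗ[k] (W ⧸ LinearMap.range (v ∘ₗ u)) :=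
    Submodule.mapQ _ _ v (by
      rintro _ ⟨x, rfl⟩
      exact ⟨x, rfl⟩)
  let ψ : (W ⧸ LinearMap.range (v ∘ₗ u)) →ₗ[k] (W ⧸ LinearMap.range v) :=
    Submodule.mapQ _ _ LinearMap.id (by
      intro x hx
      exact hle hx)
  have hθ : Function.Injective θ := by
    rw [injective_iff_map_eq_zero]
    intro x
    induction x using Submodule.Quotient.induction_on with
    | H x =>
      intro hx
      rw [Submodule.mapQ_apply, Submodule.Quotient.mk_eq_zero] at hx
      obtain ⟨y, hy⟩ := hx
      have : u y = x := hv hy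
      rw [Submodule.Quotient.mk_eq_zero]
      exact ⟨y, this⟩
  have hψ : Function.Surjective ψ := by
    intro x
    induction x using Submodule.Quotient.induction_on with
    | H x => exact ⟨Submodule.Quotient.mk x, rfl⟩
  have hker : LinearMap.ker ψ = LinearMap.range θ := by
    ext x
    induction x using Submodule.Quotient.induction_on with
    | H x =>
      rw [LinearMap.mem_ker, Submodule.mapQ_apply, Submodule.Quotient.mk_eq_zero]
      constructor
      · rintro ⟨y, hy⟩
        refine ⟨Submodule.Quotient.mk y, ?_⟩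
        rw [Submodule.mapQ_apply]
        exact congrArg _ hy
      · rintro ⟨y, hy⟩
        induction y using Submodule.Quotient.induction_on with
        | H y =>
          rw [Submodule.mapQ_apply, Submodule.Quotient.eq] at hy
          obtain ⟨z, hz⟩ := hy
          refine ⟨y - u z, ?_⟩
          have hz' : v (u z) = v y - x := hz
          rw [LinearMap.id_apply, map_sub, hz']
          abel
  haveI hfinr : Module.Finite k (LinearMap.range θ) :=
    Module.Finite.range θ
  haveI hfink : Module.Finite k (LinearMap.ker ψ) := by rw [hker]; exact hfinr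
  haveI hfinq : Module.Finite k ((W ⧸ LinearMap.range (v ∘ₗ u)) ⧸ LinearMap.ker ψ) :=
    Module.Finite.equiv (LinearMap.quotKerEquivOfSurjective ψ hψ).symm
  haveI hfin : Module.Finite k (W ⧸ LinearMap.range (v ∘ₗ u)) :=
    Module.Finite.of_submodule_quotient (LinearMap.ker ψ)
  refine ⟨hfin, ?_⟩
  have h1 := LinearMap.finrank_range_add_finrank_ker ψ
  rw [LinearMap.range_eq_top.mpr hψ, finrank_top] at h1
  have h2 : Module.finrank k (LinearMap.ker ψ) = Module.finrank k (V ⧸ LinearMap.range u) := by
    rw [hker]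
    exact LinearMap.finrank_range_of_inj hθ
  omega

end rank

section subquot

variable {V W Z V' W' : Type*} [AddCommGroup V] [Module k V] [AddCommGroup W] [Module k W]
  [AddCommGroup Z] [Module k Z] [AddCommGroup V'] [Module k V'] [AddCommGroup W'] [Module k W']

/-- the dimension of `ker b / (P ∩ ker b)`. -/
noncomputable def hqS (P : Submodule k V) (b : V →ₗ[k] W) : ℕ :=
  Module.finrank k (↥(LinearMap.ker b) ⧸ P.comap (LinearMap.ker b).subtype)

lemma hqS_congr_sub (S S' : Submodule k V) (h : S = S') (P : Submodule k V) :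
    Module.finrank k (↥S ⧸ P.comap S.subtype) = Module.finrank k (↥S' ⧸ P.comap S'.subtype) := by
  subst h
  rfl

/-- computing `hqS` through an injective parametrisation of the kernel. -/
lemma finrank_quot_eq_hqS (J : Z →ₗ[k] V) (hJ : Function.Injective J) (b : V →ₗ[k] W)
    (hJb : LinearMap.range J = LinearMap.ker b) (P' : Submodule k Z) (P : Submodule k V)
    (hP : P'.map J = P) :
    Module.finrank k (Z ⧸ P') = hqS P b := by
  unfold hqS
  rw [← hqS_congr_sub _ _ hJb P]
  let e : Z ≃ₗ[k] ↥(LinearMap.range J) := LinearEquiv.ofInjective J hJ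
  refine LinearEquiv.finrank_eq (Submodule.Quotient.equiv P' _ e ?_)
  ext ⟨x, hx⟩
  simp only [Submodule.mem_map, Submodule.mem_comap, Submodule.subtype_apply]
  constructor
  · rintro ⟨z, hz, hzx⟩
    have : J z = x := congrArg Subtype.val hzx
    rw [← hP]
    exact ⟨z, hz, this⟩
  · intro hxP
    rw [← hP] at hxP
    obtain ⟨z, hz, hzx⟩ := hxP
    exact ⟨z, hz, Subtype.ext hzx⟩

/-- invariance of `hqS` under isomorphisms. -/
lemma hqS_eq_of_equiv (P : Submodule k V) (b : V →ₗ[k] W) (P' : Submodule k V')
    (b' : V' →ₗ[k] W') (eV : V ≃ₗ[k] V') (eW : W ≃ₗ[k] W')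
    (hb : ∀ x, eW (b x) = b' (eV x)) (hP : P.map (eV : V →ₗ[k] V') = P') :
    hqS P b = hqS P' b' := by
  have hker : (LinearMap.ker b).map (eV : V →ₗ[k] V') = LinearMap.ker b' := by
    ext y
    simp only [Submodule.mem_map, LinearMap.mem_ker]
    constructor
    · rintro ⟨x, hx, rfl⟩
      change b' (eV x) = 0
      rw [← hb, hx, map_zero]
    · intro hy
      refine ⟨eV.symm y, ?_, by simp⟩
      apply eW.injective
      rw [hb, map_zero]
      simpa using hy
  let e : ↥(LinearMap.ker b) ≃ₗ[k] ↥(LinearMap.ker b') :=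
    LinearEquiv.ofSubmodules eV _ _ hker
  unfold hqS
  refine LinearEquiv.finrank_eq (Submodule.Quotient.equiv _ _ e ?_)
  ext ⟨y, hy⟩
  simp only [Submodule.mem_map, Submodule.mem_comap, Submodule.subtype_apply]
  constructor
  · rintro ⟨⟨x, hx⟩, hxP, hxy⟩
    have h1 : eV x = y := congrArg Subtype.val hxy
    rw [← hP, ← h1]
    exact ⟨x, hxP, rfl⟩
  · intro hyP
    rw [← hP] at hyP
    obtain ⟨x, hxP, hxy⟩ := hyP
    have hxk : x ∈ LinearMap.ker b := by
      rw [LinearMap.mem_ker]
      apply eW.injective
      rw [hb, map_zero]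
      have : b' y = 0 := hy
      rw [← this]
      exact congrArg b' hxy
    exact ⟨⟨x, hxk⟩, hxP, Subtype.ext hxy⟩

end subquot

end Groth.Agent.H5.Hyper
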