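import Mathlib
import Groth.Agent.Lib.Helper5.Hyper.LA
import Groth.Agent.Lib.Lead.CohLES.Euler
import Groth.Agent.Lib.Lead.CohLES.Vanish
import Groth.Agent.Lib.Lead.CohLES.Finite

/-!
# The long exact cohomology sequence: dimension shifting and truncated Euler characteristics
(helper5; towards S1525)
-/

set_option autoImplicit false
universe u
open CategoryTheory CategoryTheory.Limits AlgebraicGeometry

namespace Groth.Agent.H5.Hyper

open Groth.Agent.LD

variable (k : Type u) [Field k] {X : Scheme.{u}} [X.Over (Spec (CommRingCat.of k))]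

/-- `Σ_{1 ≤ p ≤ d} (-1)^p h^p(A)`. -/
noncomputable def chiP (d : ℕ) (A : X.Modules) : ℤ :=
  (Finset.range d).sum fun j => (-1 : ℤ) ^ (j + 1) * (Module.finrank k (Coh.HH X A (j + 1)) : ℤ)

/-- `Σ_{0 ≤ p ≤ d} (-1)^p h^p(A)`. -/
noncomputable def chiT (d : ℕ) (A : X.Modules) : ℤ :=
  (Finset.range (d + 1)).sum fun j => (-1 : ℤ) ^ j * (Module.finrank k (Coh.HH X A j) : ℤ)

lemma chiP_eq_zero (d : ℕ) (A : X.Modules) (h : ∀ p, Subsingleton (Coh.HH X A (p + 1))) :
    chiP k d A = 0 := by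
  unfold chiP
  refine Finset.sum_eq_zero (fun j _ => ?_)
  haveI := h j
  rw [Module.finrank_zero_of_subsingleton]
  simp

lemma chiT_eq_zero (d : ℕ) (A : X.Modules) (h : ∀ p, Subsingleton (Coh.HH X A p)) :
    chiT k d A = 0 := by
  unfold chiT
  refine Finset.sum_eq_zero (fun j _ => ?_)
  haveI := h j
  rw [Module.finrank_zero_of_subsingleton]
  simp

section LES

variable {A B C : X.Modules} {f : A ⟶ B} {g : B ⟶ C} {w : f ≫ g = 0}
  (hS : (ShortComplex.mk f g w).ShortExact)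

include hS in
lemma ker_g_eq (i : ℕ) :
    LinearMap.ker (CL.HHmap k g i) = LinearMap.range (CL.HHmap k f i) := by
  ext y
  constructor
  · intro hy
    obtain ⟨x, hx⟩ := CL.exact₂ hS k i y hy
    exact ⟨x, hx⟩
  · rintro ⟨x, rfl⟩
    exact CL.HHmap_g_f (S := ShortComplex.mk f g w) k i x

lemma ker_δ_eq (i : ℕ) :
    LinearMap.ker (CL.HHδ hS k i) = LinearMap.range (CL.HHmap k g i) := by
  ext z
  constructor
  · intro hz
    obtain ⟨y, hy⟩ := CL.exact₃ hS k i z hz
    exact ⟨y, hy⟩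
  · rintro ⟨y, rfl⟩
    exact CL.HHδ_g k hS i y

lemma ker_f_eq (i : ℕ) :
    LinearMap.ker (CL.HHmap k f (i + 1)) = LinearMap.range (CL.HHδ hS k i) := by
  ext x
  constructor
  · intro hx
    obtain ⟨z, hz⟩ := CL.exact₁ hS k i x hx
    exact ⟨z, hz⟩
  · rintro ⟨z, rfl⟩
    exact CL.HHmap_f_δ k hS i z

/-- dimension shifting: the connecting map is bijective in positive degrees when the middle
term is acyclic. -/
theorem δ_bijective_of_acyclic (p : ℕ) (h2 : Subsingleton (Coh.HH X B (p + 1)))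
    (h2' : Subsingleton (Coh.HH X B (p + 2))) :
    Function.Bijective (CL.HHδ hS k (p + 1)) := by
  constructor
  · rw [injective_iff_map_eq_zero]
    intro x hx
    obtain ⟨y, hy⟩ := CL.exact₃ hS k (p + 1) x hx
    rw [← hy, h2.elim y 0, map_zero]
  · intro x
    exact CL.exact₁ hS k (p + 1) x (h2'.elim _ _)

theorem δ_zero_surjective (h2 : Subsingleton (Coh.HH X B 1)) :
    Function.Surjective (CL.HHδ hS k 0) := by
  intro x
  exact CL.exact₁ hS k 0 x (h2.elim _ _)

/-- `H^0(X₃) / im H^0(X₂) ≃ H^1(X₁)` when `H^1(X₂) = 0`. -/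
noncomputable def quotEquivH1 (h2 : Subsingleton (Coh.HH X B 1)) :
    (Coh.HH X C 0 ⧸ LinearMap.range (CL.HHmap k g 0)) ≃ₗ[k] Coh.HH X A 1 :=
  (Submodule.quotEquivOfEq _ _ (ker_δ_eq k hS 0).symm).trans
    (LinearMap.quotKerEquivOfSurjective _ (δ_zero_surjective k hS h2))

include hS in
/-- the truncated Euler characteristic identity. -/
theorem lemma_T (d : ℕ) (hd : Subsingleton (Coh.HH X A (d + 1)))
    (fin₃ : ∀ p, Module.Finite k (Coh.HH X C p))
    (fin₁ : ∀ p, Module.Finite k (Coh.HH X A (p + 1)))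
    (fin₂ : ∀ p, Module.Finite k (Coh.HH X B (p + 1))) :
    Module.Finite k (Coh.HH X B 0 ⧸ LinearMap.range (CL.HHmap k f 0)) ∧
      (Module.finrank k (Coh.HH X B 0 ⧸ LinearMap.range (CL.HHmap k f 0)) : ℤ) =
        chiT k d C + chiP k d A - chiP k d B := by
  let e : (Coh.HH X B 0 ⧸ LinearMap.range (CL.HHmap k f 0)) ≃ₗ[k]
      LinearMap.range (CL.HHmap k g 0) :=
    (Submodule.quotEquivOfEq _ _ (ker_g_eq k hS 0).symm).trans
      (LinearMap.quotKerEquivRange (CL.HHmap k g 0))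
  haveI := fin₃ 0
  refine ⟨Module.Finite.equiv e.symm, ?_⟩
  rw [e.finrank_eq]
  obtain ⟨r, hr⟩ : ∃ r : ℕ → ℤ, ∀ p, r p =
      (Module.finrank k (LinearMap.range (CL.HHmap k f p)) : ℤ) := ⟨_, fun _ => rfl⟩
  obtain ⟨s, hs⟩ : ∃ s : ℕ → ℤ, ∀ p, s p =
      (Module.finrank k (LinearMap.range (CL.HHmap k g p)) : ℤ) := ⟨_, fun _ => rfl⟩
  obtain ⟨t, ht⟩ : ∃ t : ℕ → ℤ, ∀ p, t p =
      (Module.finrank k (LinearMap.range (CL.HHδ hS k p)) : ℤ) := ⟨_, fun _ => rfl⟩
  have h3 : ∀ p, (Module.finrank k (Coh.HH X C p) : ℤ) = s p + t p := by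
    intro p
    haveI := fin₃ p
    rw [hs, ht, finrank_eq_rank_add_rank (CL.HHmap k g p) (CL.HHδ hS k p) (ker_δ_eq k hS p)]
    push_cast
    rfl
  have h1 : ∀ p, (Module.finrank k (Coh.HH X A (p + 1)) : ℤ) = t p + r (p + 1) := by
    intro p
    haveI := fin₁ p
    rw [hr, ht, finrank_eq_rank_add_rank (CL.HHδ hS k p) (CL.HHmap k f (p + 1))
      (ker_f_eq k hS p)]
    push_cast
    rfl
  have h2 : ∀ p, (Module.finrank k (Coh.HH X B (p + 1)) : ℤ) = r (p + 1) + s (p + 1) := by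
    intro p
    haveI := fin₂ p
    rw [hr, hs, finrank_eq_rank_add_rank (CL.HHmap k f (p + 1)) (CL.HHmap k g (p + 1))
      (ker_g_eq k hS (p + 1))]
    push_cast
    rfl
  have htd : t d = 0 := by
    rw [ht]
    haveI := hd
    rw [Module.finrank_zero_of_subsingleton]
    rfl
  have hA := arith_T r s t d
  rw [htd, mul_zero, add_zero] at hA
  rw [← hs 0, ← hA]
  unfold chiT chiP
  congr 1
  · congr 1
    · exact Finset.sum_congr rfl (fun j _ => by rw [h3 j])
    · exact Finset.sum_congr rfl (fun j _ => by rw [h1 j])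
  · exact Finset.sum_congr rfl (fun j _ => by rw [h2 j])

include hS in
lemma inj_f : Function.Injective (CL.HHmap k f 0) := by
  intro x y hxy
  exact CL.HHmap_f_injective k hS hxy

include hS in
lemma finite_mid (p : ℕ) [Module.Finite k (Coh.HH X A p)] [Module.Finite k (Coh.HH X C p)] :
    Module.Finite k (Coh.HH X B p) :=
  CL.finite_of_exact (CL.HHmap k f p) (CL.HHmap k g p) (fun x hx => CL.exact₂ hS k p x hx)

include hS in
lemma subsingleton_mid' (p : ℕ) (h₁ : Subsingleton (Coh.HH X A p))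
    (h₃ : Subsingleton (Coh.HH X C p)) : Subsingleton (Coh.HH X B p) :=
  CL.subsingleton_mid hS p h₁ h₃

/-- the shift isomorphism `H^{p+1}(C) ≃ H^{p+2}(A)` when `B` is acyclic. -/
noncomputable def shiftEquiv' (p : ℕ) (h2 : Subsingleton (Coh.HH X B (p + 1)))
    (h2' : Subsingleton (Coh.HH X B (p + 2))) :
    Coh.HH X C (p + 1) ≃ₗ[k] Coh.HH X A (p + 2) :=
  LinearEquiv.ofBijective (CL.HHδ hS k (p + 1)) (δ_bijective_of_acyclic k hS p h2 h2')

end LES

end Groth.Agent.H5.Hyper
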