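import Mathlib
import Groth.Agent.Lib.Helper5.Hyper.LES
import Groth.Agent.Lib.Lead.KS.Chase
import Groth.Agent.Lib.Lead.Curve.Euler

/-!
# The Euler characteristic of hypercohomology (helper5; towards S1525)

For a complex `K^•` of acyclic modules with cohomology modules `ℋ^q` having finite dimensional
cohomology, `Σ (-1)^n dim H^n(Γ(K^•)) = Σ (-1)^q χ(ℋ^q)`.
-/

set_option autoImplicit false
universe u
open CategoryTheory CategoryTheory.Limits AlgebraicGeometry

namespace Groth.Agent.H5.Hyper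

open Groth.Agent.LD

/-- the data of the cycles, boundaries and cohomology of a complex, as short exact sequences. -/
structure HData (X : Scheme.{u}) where
  K : ℕ → X.Modules
  Z : ℕ → X.Modules
  B : ℕ → X.Modules
  Hh : ℕ → X.Modules
  i : ∀ q, B q ⟶ Z q
  π : ∀ q, Z q ⟶ Hh q
  wi : ∀ q, i q ≫ π q = 0
  ex1 : ∀ q, (ShortComplex.mk (i q) (π q) (wi q)).ShortExact
  j : ∀ q, Z q ⟶ K q
  ρ : ∀ q, K q ⟶ B (q + 1)
  wj : ∀ q, j q ≫ ρ q = 0
  ex2 : ∀ q, (ShortComplex.mk (j q) (ρ q) (wj q)).ShortExact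
  B0 : IsZero (B 0)

namespace HData

variable {X : Scheme.{u}} (D : HData X)

/-- the differential. -/
def d (q : ℕ) : D.K q ⟶ D.K (q + 1) := D.ρ q ≫ D.i (q + 1) ≫ D.j (q + 1)

/-- the source of the incoming map to the cycles. -/
def src : ℕ → X.Modules
  | 0 => D.B 0
  | q + 1 => D.K q

/-- the incoming map to the cycles. -/
def inc : ∀ q, D.src q ⟶ D.Z q
  | 0 => D.i 0
  | q + 1 => D.ρ q ≫ D.i (q + 1)

variable (k : Type u) [Field k] [X.Over (Spec (CommRingCat.of k))]

/-- the image of the previous differential on global sections. -/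
noncomputable def P : ∀ q, Submodule k (Coh.HH X (D.K q) 0)
  | 0 => ⊥
  | q + 1 => LinearMap.range (CL.HHmap k (D.d q) 0)

/-- the dimension of the `q`-th cohomology of the complex of global sections. -/
noncomputable def e (q : ℕ) : ℕ := hqS (D.P k q) (CL.HHmap k (D.d q) 0)

/-- the hypotheses. -/
structure Good (N d : ℕ) : Prop where
  acyc : ∀ q p, Subsingleton (Coh.HH X (D.K q) (p + 1))
  fin : ∀ q p, Module.Finite k (Coh.HH X (D.Hh q) p)
  van : ∀ q, N < q → IsZero (D.Hh q)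
  cd : ∀ (A : X.Modules) (p : ℕ), d < p → Subsingleton (Coh.HH X A p)

variable {D k} {N d : ℕ} (hG : D.Good k N d)

include hG

lemma finite_of_subsingleton' {M : Type*} [AddCommGroup M] [Module k M] [Subsingleton M] :
    Module.Finite k M := by
  haveI : Finite M := Finite.of_subsingleton
  exact Module.Finite.of_finite

omit hG in
lemma fin_Z_of_fin_B (hfin : ∀ q p, Module.Finite k (Coh.HH X (D.Hh q) p)) (q : ℕ)
    (hB : ∀ p, Module.Finite k (Coh.HH X (D.B q) (p + 1))) (p : ℕ) :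
    Module.Finite k (Coh.HH X (D.Z q) (p + 1)) := by
  haveI := hB p
  haveI := hfin q (p + 1)
  exact finite_mid k (D.ex1 q) (p + 1)

/-- the shift isomorphism `H^{p+1}(B^{q+1}) ≃ H^{p+2}(Z^q)`. -/
noncomputable def shiftEquiv (q p : ℕ) :
    Coh.HH X (D.B (q + 1)) (p + 1) ≃ₗ[k] Coh.HH X (D.Z q) (p + 2) :=
  shiftEquiv' k (D.ex2 q) p (hG.acyc q p) (hG.acyc q (p + 1))

lemma fin_BZ : ∀ q, (∀ p, Module.Finite k (Coh.HH X (D.B q) (p + 1))) ∧
    (∀ p, Module.Finite k (Coh.HH X (D.Z q) (p + 1)))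
  | 0 => by
    have hB : ∀ p, Module.Finite k (Coh.HH X (D.B 0) (p + 1)) := by
      intro p
      haveI := CL.subsingleton_HH_of_isZero D.B0 (p + 1)
      exact finite_of_subsingleton' hG
    exact ⟨hB, fun p => fin_Z_of_fin_B hG.fin 0 hB p⟩
  | q + 1 => by
    have ih := fin_BZ q
    have hB : ∀ p, Module.Finite k (Coh.HH X (D.B (q + 1)) (p + 1)) := by
      intro p
      haveI := ih.2 (p + 1)
      exact Module.Finite.equiv (shiftEquiv hG q p).symm
    exact ⟨hB, fun p => fin_Z_of_fin_B hG.fin (q + 1) hB p⟩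

lemma chiP_B_succ (q : ℕ) :
    chiP k d (D.B (q + 1)) =
      - chiP k d (D.Z q) - (Module.finrank k (Coh.HH X (D.Z q) 1) : ℤ) := by
  have h := telescope_alt (fun p => (Module.finrank k (Coh.HH X (D.Z q) (p + 1)) : ℤ)) d
  have hd0 : (Module.finrank k (Coh.HH X (D.Z q) (d + 1)) : ℤ) = 0 := by
    haveI := hG.cd (D.Z q) (d + 1) (Nat.lt_succ_self d)
    rw [Module.finrank_zero_of_subsingleton]
    rfl
  simp only [mul_add, Finset.sum_add_distrib] at h
  rw [hd0, mul_zero, zero_sub] at h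
  have h1 : chiP k d (D.B (q + 1)) = (Finset.range d).sum fun j =>
      (-1 : ℤ) ^ (j + 1) * (Module.finrank k (Coh.HH X (D.Z q) (j + 1 + 1)) : ℤ) := by
    unfold chiP
    refine Finset.sum_congr rfl (fun j _ => ?_)
    rw [(shiftEquiv hG q j).finrank_eq]
  have h2 : chiP k d (D.Z q) = (Finset.range d).sum fun j =>
      (-1 : ℤ) ^ (j + 1) * (Module.finrank k (Coh.HH X (D.Z q) (j + 1)) : ℤ) := rfl
  rw [h1, h2]
  linarith

/-- the auxiliary numbers `b_q`. -/
noncomputable def bb (D : HData X) (k : Type u) [Field k] [X.Over (Spec (CommRingCat.of k))] :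
    ℕ → ℤ
  | 0 => 0
  | q + 1 => (Module.finrank k (Coh.HH X (D.Z q) 1) : ℤ)

omit hG in
lemma range_j_eq_ker_d (q : ℕ) :
    LinearMap.range (CL.HHmap k (D.j q) 0) = LinearMap.ker (CL.HHmap k (D.d q) 0) := by
  have h1 := ker_g_eq k (D.ex2 q) 0
  rw [← h1]
  have hi : Function.Injective (CL.HHmap k (D.i (q + 1)) 0) := inj_f k (D.ex1 (q + 1))
  have hj : Function.Injective (CL.HHmap k (D.j (q + 1)) 0) := inj_f k (D.ex2 (q + 1))
  ext x
  simp only [LinearMap.mem_ker]
  unfold HData.d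
  rw [CL.HHmap_comp, CL.HHmap_comp]
  simp only [LinearMap.comp_apply]
  constructor
  · intro hx
    rw [hx, map_zero, map_zero]
  · intro hx
    apply hi
    apply hj
    rw [hx, map_zero, map_zero]

omit hG in
lemma map_P' (q : ℕ) :
    (LinearMap.range (CL.HHmap k (D.inc q) 0)).map (CL.HHmap k (D.j q) 0) = D.P k q := by
  cases q with
  | zero =>
    change (LinearMap.range (CL.HHmap k (D.i 0) 0)).map (CL.HHmap k (D.j 0) 0) = ⊥
    haveI := CL.subsingleton_HH_of_isZero D.B0 0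
    have : LinearMap.range (CL.HHmap k (D.i 0) 0) = ⊥ := by
      rw [LinearMap.range_eq_bot]
      ext x
      rw [Subsingleton.elim x 0, map_zero]
      rfl
    rw [this, Submodule.map_bot]
  | succ q =>
    change (LinearMap.range (CL.HHmap k (D.ρ q ≫ D.i (q + 1)) 0)).map
      (CL.HHmap k (D.j (q + 1)) 0) = LinearMap.range (CL.HHmap k (D.d q) 0)
    rw [← LinearMap.range_comp, ← CL.HHmap_comp]
    unfold HData.d
    rw [Category.assoc]

/-- the key formula for the dimension of the cohomology of the complex of global sections. -/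
lemma e_eq (q : ℕ) :
    (D.e k q : ℤ) = chiT k d (D.Hh q) + chiP k d (D.B q) - chiP k d (D.Z q) + bb D k q := by
  have hfB := (fin_BZ hG q).1
  have hfZ := (fin_BZ hG q).2
  have hT := lemma_T k (D.ex1 q) d (hG.cd (D.B q) (d + 1) (Nat.lt_succ_self d)) (hG.fin q) hfB hfZ
  obtain ⟨hfa, ha⟩ := hT
  have hCR : Module.finrank k (Coh.HH X (D.Z q) 0 ⧸ LinearMap.range (CL.HHmap k (D.inc q) 0)) =
      D.e k q :=
    finrank_quot_eq_hqS (CL.HHmap k (D.j q) 0) (inj_f k (D.ex2 q))
      (CL.HHmap k (D.d q) 0) (range_j_eq_ker_d q) (LinearMap.range (CL.HHmap k (D.inc q) 0))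
      (D.P k q) (map_P' q)
  rw [← hCR]
  cases q with
  | zero =>
    change (Module.finrank k (Coh.HH X (D.Z 0) 0 ⧸ LinearMap.range (CL.HHmap k (D.i 0) 0)) : ℤ) =
      chiT k d (D.Hh 0) + chiP k d (D.B 0) - chiP k d (D.Z 0) + 0
    rw [ha, add_zero]
  | succ q =>
    change (Module.finrank k (Coh.HH X (D.Z (q + 1)) 0 ⧸
      LinearMap.range (CL.HHmap k (D.ρ q ≫ D.i (q + 1)) 0)) : ℤ) =
      chiT k d (D.Hh (q + 1)) + chiP k d (D.B (q + 1)) - chiP k d (D.Z (q + 1)) +
        (Module.finrank k (Coh.HH X (D.Z q) 1) : ℤ)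
    rw [CL.HHmap_comp]
    let eb := quotEquivH1 k (D.ex2 q) (hG.acyc q 0)
    haveI := (fin_BZ hG q).2 0
    haveI hfb : Module.Finite k
        (Coh.HH X (D.B (q + 1)) 0 ⧸ LinearMap.range (CL.HHmap k (D.ρ q) 0)) :=
      Module.Finite.equiv eb.symm
    haveI := hfa
    obtain ⟨-, hL1⟩ := finrank_quot_comp (CL.HHmap k (D.ρ q) 0) (CL.HHmap k (D.i (q + 1)) 0)
      (inj_f k (D.ex1 (q + 1)))
    rw [hL1, eb.finrank_eq]
    push_cast
    rw [ha]

lemma large_vanish : ∀ (t p : ℕ), d ≤ p + t →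
    Subsingleton (Coh.HH X (D.B (N + 1 + t)) (p + 1)) ∧
      Subsingleton (Coh.HH X (D.Z (N + 1 + t)) (p + 1))
  | 0, p, h => ⟨hG.cd _ _ (by omega), hG.cd _ _ (by omega)⟩
  | t + 1, p, h => by
    have ih := large_vanish t (p + 1) (by omega)
    have hB : Subsingleton (Coh.HH X (D.B (N + 1 + t + 1)) (p + 1)) := by
      haveI := ih.2
      exact (shiftEquiv hG (N + 1 + t) p).toEquiv.subsingleton
    refine ⟨hB, ?_⟩
    have hz : IsZero (D.Hh (N + 1 + t + 1)) := hG.van _ (by omega)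
    exact subsingleton_mid' (D.ex1 (N + 1 + t + 1)) (p + 1) hB
      (CL.subsingleton_HH_of_isZero hz (p + 1))

lemma big_vanish (q : ℕ) (hq : N + 1 + d ≤ q) (p : ℕ) :
    Subsingleton (Coh.HH X (D.B q) (p + 1)) ∧ Subsingleton (Coh.HH X (D.Z q) (p + 1)) := by
  have h1 : q = N + 1 + (q - (N + 1)) := by omega
  rw [h1]
  exact large_vanish hG (q - (N + 1)) p (by omega)

lemma bb_eq_zero (q : ℕ) (hq : N + d + 2 ≤ q) : bb D k q = 0 := by
  obtain ⟨q', rfl⟩ : ∃ q', q = q' + 1 := ⟨q - 1, by omega⟩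
  change (Module.finrank k (Coh.HH X (D.Z q') 1) : ℤ) = 0
  haveI := (big_vanish hG q' (by omega) 0).2
  rw [Module.finrank_zero_of_subsingleton]
  rfl

theorem e_eq_zero (q : ℕ) (hq : N + d + 2 ≤ q) : D.e k q = 0 := by
  have h := e_eq hG q
  have hz : IsZero (D.Hh q) := hG.van q (by omega)
  rw [chiT_eq_zero k d _ (fun p => CL.subsingleton_HH_of_isZero hz p),
    chiP_eq_zero k d _ (fun p => (big_vanish hG q (by omega) p).1),
    chiP_eq_zero k d _ (fun p => (big_vanish hG q (by omega) p).2), bb_eq_zero hG q hq] at h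
  simpa using h

theorem sum_e_eq (M : ℕ) (hM : N + d + 2 ≤ M) :
    ((Finset.range M).sum fun q => (-1 : ℤ) ^ q * (D.e k q : ℤ)) =
      (Finset.range M).sum fun q => (-1 : ℤ) ^ q * chiT k d (D.Hh q) := by
  have key : ∀ q, (D.e k q : ℤ) = chiT k d (D.Hh q) +
      (chiP k d (D.B q) + chiP k d (D.B (q + 1))) + (bb D k q + bb D k (q + 1)) := by
    intro q
    rw [e_eq hG q, chiP_B_succ hG q]
    change _ = _ + _ + (bb D k q + (Module.finrank k (Coh.HH X (D.Z q) 1) : ℤ))
    ring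
  have hx0 : chiP k d (D.B 0) = 0 :=
    chiP_eq_zero k d _ (fun p => CL.subsingleton_HH_of_isZero D.B0 (p + 1))
  have hxM : chiP k d (D.B M) = 0 :=
    chiP_eq_zero k d _ (fun p => (big_vanish hG M (by omega) p).1)
  have hy0 : bb D k 0 = 0 := rfl
  have hyM : bb D k M = 0 := bb_eq_zero hG M hM
  calc ((Finset.range M).sum fun q => (-1 : ℤ) ^ q * (D.e k q : ℤ))
      = (Finset.range M).sum fun q => ((-1 : ℤ) ^ q * chiT k d (D.Hh q) +
          (-1 : ℤ) ^ q * (chiP k d (D.B q) + chiP k d (D.B (q + 1))) +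
          (-1 : ℤ) ^ q * (bb D k q + bb D k (q + 1))) :=
        Finset.sum_congr rfl (fun q _ => by rw [key q]; ring)
    _ = ((Finset.range M).sum fun q => (-1 : ℤ) ^ q * chiT k d (D.Hh q)) +
          ((Finset.range M).sum fun q =>
            (-1 : ℤ) ^ q * (chiP k d (D.B q) + chiP k d (D.B (q + 1)))) +
          ((Finset.range M).sum fun q => (-1 : ℤ) ^ q * (bb D k q + bb D k (q + 1))) := by
        rw [Finset.sum_add_distrib, Finset.sum_add_distrib]
    _ = ((Finset.range M).sum fun q => (-1 : ℤ) ^ q * chiT k d (D.Hh q)) := by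
        rw [telescope_alt' (fun q => chiP k d (D.B q)) M, telescope_alt' (fun q => bb D k q) M,
          hx0, hxM, hy0, hyM]
        ring

/-- **the Euler characteristic of hypercohomology.** -/
theorem finsum_e_eq :
    (∑ᶠ q : ℕ, (-1 : ℤ) ^ q * (D.e k q : ℤ)) =
      ∑ᶠ q : ℕ, (-1 : ℤ) ^ q * Curv2.euler k X (D.Hh q) := by
  have hL : (∑ᶠ q : ℕ, (-1 : ℤ) ^ q * (D.e k q : ℤ)) =
      (Finset.range (N + d + 2)).sum fun q => (-1 : ℤ) ^ q * (D.e k q : ℤ) := by
    refine finsum_eq_sum_of_support_subset _ ?_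
    intro q hq
    rw [Function.mem_support] at hq
    rw [Finset.coe_range, Set.mem_Iio]
    by_contra hlt
    exact hq (by rw [e_eq_zero hG q (by omega)]; simp)
  have hR : (∑ᶠ q : ℕ, (-1 : ℤ) ^ q * Curv2.euler k X (D.Hh q)) =
      (Finset.range (N + d + 2)).sum fun q => (-1 : ℤ) ^ q * Curv2.euler k X (D.Hh q) := by
    refine finsum_eq_sum_of_support_subset _ ?_
    intro q hq
    rw [Function.mem_support] at hq
    rw [Finset.coe_range, Set.mem_Iio]
    by_contra hlt
    have hz : IsZero (D.Hh q) := hG.van q (by omega)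
    exact hq (by rw [Groth.Agent.LD.Curve.euler_of_isZero k X hz]; simp)
  rw [hL, hR, sum_e_eq hG (N + d + 2) le_rfl]
  refine Finset.sum_congr rfl (fun q _ => ?_)
  rw [Groth.Agent.LD.Curve.euler_eq_sum k X (D.Hh q) d (fun p hp => hG.cd _ p hp)]
  rfl

end HData

end Groth.Agent.H5.Hyper
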