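import Mathlib
import Groth.Agent.Lib.Helper5.Hyper.Chi

/-!
# The `HData` of a cochain complex (helper5; towards S1525)
-/

set_option autoImplicit false
universe u
open CategoryTheory CategoryTheory.Limits AlgebraicGeometry

namespace Groth.Agent.H5.Hyper

variable {X : Scheme.{u}} (L : CochainComplex X.Modules ℕ)

/-- the map `K^q ⟶ B^{q+1}`. -/
noncomputable def cxρ (q : ℕ) : L.X q ⟶ kernel (L.homologyπ (q + 1)) :=
  kernel.lift (L.homologyπ (q + 1)) (L.toCycles q (q + 1)) (L.toCycles_comp_homologyπ q (q + 1))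

lemma cxρ_ι (q : ℕ) : cxρ L q ≫ kernel.ι (L.homologyπ (q + 1)) = L.toCycles q (q + 1) :=
  kernel.lift_ι _ _ _

lemma cxρ_d (q : ℕ) :
    cxρ L q ≫ kernel.ι (L.homologyπ (q + 1)) ≫ L.iCycles (q + 1) = L.d q (q + 1) := by
  rw [← Category.assoc, cxρ_ι, HomologicalComplex.toCycles_i]

lemma cx_wj (q : ℕ) : L.iCycles q ≫ cxρ L q = 0 := by
  rw [← cancel_mono (kernel.ι (L.homologyπ (q + 1)) ≫ L.iCycles (q + 1)), Category.assoc,
    cxρ_d, HomologicalComplex.iCycles_d, zero_comp]

instance cx_epi_ρ (q : ℕ) : Epi (cxρ L q) := by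
  have hex : (ShortComplex.mk (L.toCycles q (q + 1)) (L.homologyπ (q + 1))
      (L.toCycles_comp_homologyπ q (q + 1))).Exact :=
    ShortComplex.exact_of_g_is_cokernel _
      (L.homologyIsCokernel q (q + 1) (CochainComplex.prev_nat_succ q))
  exact (ShortComplex.exact_iff_epi_kernel_lift _).1 hex

/-- the `HData` of a cochain complex. -/
noncomputable def ofComplex : HData X where
  K q := L.X q
  Z q := L.cycles q
  B q := kernel (L.homologyπ q)
  Hh q := L.homology q
  i q := kernel.ι _
  π q := L.homologyπ q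
  wi q := kernel.condition _
  ex1 q :=
    { exact := ShortComplex.exact_of_f_is_kernel _ (kernelIsKernel _)
      mono_f := by dsimp; infer_instance
      epi_g := by dsimp; infer_instance }
  j q := L.iCycles q
  ρ q := cxρ L q
  wj q := cx_wj L q
  ex2 q :=
    { exact := ShortComplex.exact_of_f_is_kernel _
        (isKernelOfComp (f := cxρ L q) (kernel.ι (L.homologyπ (q + 1)) ≫ L.iCycles (q + 1))
          (L.d q (q + 1)) (L.cyclesIsKernel q (q + 1) (CochainComplex.next ℕ q))
          (cx_wj L q) (cxρ_d L q))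
      mono_f := by dsimp; infer_instance
      epi_g := by dsimp; infer_instance }
  B0 := isZero_kernel_of_mono _

lemma ofComplex_d (q : ℕ) : (ofComplex L).d q = L.d q (q + 1) := cxρ_d L q

end Groth.Agent.H5.Hyper
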