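import Mathlib
import Groth.Agent.Lib.Helper5.Hyper.Cx
import Groth.Agent.Lib.Helper2.LerayLin
import Groth.Agent.Lib.Helper6.GVC
import Groth.Agent.Lib.Helper6.HC2
import Groth.Agent.Lib.Helper9.Misc.ORB3
import Groth.Agent.Lib.Helper5.Curve2.D
import Groth.Agent.Lib.Lead.SF.KSec
import Groth.Agent.Lib.Lead.RS.Coherent
import Groth.Agent.Lib.Lead.SC.RPushQC
import Groth.Agent.Lib.Lead.RP.Compare2
import Groth.Agent.Lib.Lead.RP.LemmaA

/-!
# `χ(Y, G) = Σ (-1)^q χ(X, R^q f_* G)` (helper5; S1525)
-/

set_option autoImplicit false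
universe u
open CategoryTheory CategoryTheory.Limits AlgebraicGeometry TopologicalSpace

namespace Groth.Agent.H5.Hyper

open Groth.Agent.LD

section Edge

variable {X Y : Scheme.{u}} (f : Y ⟶ X) (k : Type u) [Field k]
  [X.Over (Spec (CommRingCat.of k))] [Y.Over (Spec (CommRingCat.of k))]
  [f.IsOver (Spec (CommRingCat.of k))]

/-- the edge equivalence `H^0(X, f_* A) ≃ H^0(Y, A)`. -/
noncomputable def edge0 (A : Y.Modules) :
    Coh.HH X ((Scheme.Modules.pushforward f).obj A) 0 ≃ₗ[k] Coh.HH Y A 0 :=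
  LinearEquiv.ofBijective (Groth.Agent.H2.Leray.edgeLin f k A 0)
    (Groth.Agent.H2.Leray.edge_zero_bijective (FBC.adjAb f)
      (Groth.Agent.H2.Leray.constIso f).hom (Coh.toAb A))

lemma edge0_map {A B : Y.Modules} (φ : A ⟶ B)
    (x : Coh.HH X ((Scheme.Modules.pushforward f).obj A) 0) :
    edge0 f k B (CL.HHmap k ((Scheme.Modules.pushforward f).map φ) 0 x) =
      CL.HHmap k φ 0 (edge0 f k A x) :=
  Groth.Agent.H2.Leray.edgeLin_map f k φ 0 x

lemma map_range_edge0 {A B : Y.Modules} (φ : A ⟶ B) :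
    (LinearMap.range (CL.HHmap k ((Scheme.Modules.pushforward f).map φ) 0)).map
        ((edge0 f k B : _ ≃ₗ[k] _) : _ →ₗ[k] _) =
      LinearMap.range (CL.HHmap k φ 0) := by
  ext y
  simp only [Submodule.mem_map, LinearMap.mem_range]
  constructor
  · rintro ⟨z, ⟨x, rfl⟩, rfl⟩
    exact ⟨edge0 f k A x, (edge0_map f k φ x).symm⟩
  · rintro ⟨x, rfl⟩
    refine ⟨CL.HHmap k ((Scheme.Modules.pushforward f).map φ) 0 ((edge0 f k A).symm x),
      ⟨_, rfl⟩, ?_⟩
    change edge0 f k B _ = _
    rw [edge0_map, LinearEquiv.apply_symm_apply]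

/-- the complex of global sections of `f_* L` is that of `L`. -/
theorem e_push_eq (L : CochainComplex Y.Modules ℕ) (q : ℕ) :
    (ofComplex (((Scheme.Modules.pushforward f).mapHomologicalComplex
      (ComplexShape.up ℕ)).obj L)).e k q = (ofComplex L).e k q := by
  unfold HData.e
  refine hqS_eq_of_equiv _ _ _ _ (edge0 f k (L.X q)) (edge0 f k (L.X (q + 1))) ?_ ?_
  · intro x
    rw [ofComplex_d, ofComplex_d]
    exact edge0_map f k (L.d q (q + 1)) x
  · cases q with
    | zero => exact Submodule.map_bot _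
    | succ q =>
      change (LinearMap.range (CL.HHmap k ((ofComplex (((Scheme.Modules.pushforward
        f).mapHomologicalComplex (ComplexShape.up ℕ)).obj L)).d q) 0)).map _ =
          LinearMap.range (CL.HHmap k ((ofComplex L).d q) 0)
      rw [ofComplex_d, ofComplex_d]
      exact map_range_edge0 f k (L.d q (q + 1))

end Edge

lemma subsingleton_HH_of_isFlasque {Y : Scheme.{u}} (A : Y.Modules)
    (hA : TopCat.Sheaf.IsFlasque (X := Y.carrier) (Coh.toAb A)) (p : ℕ) :
    Subsingleton (Coh.HH Y A (p + 1)) :=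
  SC.subsingleton_H_of_subsingleton_ext (T := (⊤ : Y.Opens)) isTerminalTop _ _
    (SC.subsingleton_ext_of_isFlasque p (Coh.toAb A) ⊤)

section Vanishing

variable (k : Type u) [Field k] (Y : Scheme.{u}) [Y.Over (Spec (CommRingCat.of k))]
  [IsProper (Y ↘ Spec (CommRingCat.of k))]

include k in
/-- finite cohomological dimension of a proper scheme over a field. -/
theorem exists_cd : ∃ d : ℕ, ∀ (A : Y.Modules) (p : ℕ), d < p →
    Subsingleton (Coh.HH Y A p) := by
  obtain ⟨d, hd⟩ := Groth.Agent.H9.ORB3.exists_nat_dim_le (Y ↘ Spec (CommRingCat.of k))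
  haveI := Groth.Agent.H5.Curve2.isNoetherian_of_proper k Y
  exact ⟨d, fun A p hp => Groth.Agent.H6.GV.main (X := Y.carrier) d hd (Coh.toAb A) p hp⟩

end Vanishing

section Main

variable (k : Type u) [Field k] (X Y : Scheme.{u})
  [X.Over (Spec (CommRingCat.of k))] [Y.Over (Spec (CommRingCat.of k))]
  [IsProper (X ↘ Spec (CommRingCat.of k))] [IsProper (Y ↘ Spec (CommRingCat.of k))]

variable {Y} in
/-- `H^0` of an injective resolution. -/
noncomputable def resH0Iso {G : Y.Modules} (I : InjectiveResolution G) :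
    I.cocomplex.homology 0 ≅ G :=
  (isoOfQuasiIsoAt I.ι 0).symm ≪≫
    HomologicalComplex.singleObjHomologySelfIso (ComplexShape.up ℕ) 0 G

variable {Y} in
lemma resH_succ_isZero {G : Y.Modules} (I : InjectiveResolution G) (q : ℕ) :
    IsZero (I.cocomplex.homology (q + 1)) :=
  (I.cocomplex_exactAt_succ q).isZero_homology

variable {Y} in
/-- the resolution side satisfies the hypotheses. -/
theorem good_res {G : Y.Modules} (hG : Coh.IsCoh G) (I : InjectiveResolution G) (d : ℕ)
    (hd : ∀ (A : Y.Modules) (p : ℕ), d < p → Subsingleton (Coh.HH Y A p)) :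
    (ofComplex I.cocomplex).Good k 0 d where
  acyc q p := by
    haveI : Injective (I.cocomplex.X q) := I.injective q
    exact subsingleton_HH_of_isFlasque (I.cocomplex.X q)
      (SF.isFlasque_toAb_of_injective (I.cocomplex.X q)) p
  fin q p := by
    cases q with
    | zero =>
      haveI := Curve.finite_HH k Y G hG p
      exact Module.Finite.equiv (CL.HHisoEquiv k (resH0Iso I) p).symm
    | succ q =>
      haveI : Subsingleton (Coh.HH Y ((ofComplex I.cocomplex).Hh (q + 1)) p) :=
        CL.subsingleton_HH_of_isZero (resH_succ_isZero I q) p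
      haveI : Finite (Coh.HH Y ((ofComplex I.cocomplex).Hh (q + 1)) p) := Finite.of_subsingleton
      exact Module.Finite.of_finite
  van q hq := by
    obtain ⟨q, rfl⟩ : ∃ r, q = r + 1 := ⟨q - 1, by omega⟩
    exact resH_succ_isZero I q
  cd := hd

variable {Y} in
/-- the Euler characteristic of `G` through its resolution. -/
theorem euler_eq_finsum_e {G : Y.Modules} (hG : Coh.IsCoh G) (I : InjectiveResolution G) :
    Curv2.euler k Y G = ∑ᶠ q : ℕ, (-1 : ℤ) ^ q * ((ofComplex I.cocomplex).e k q : ℤ) := by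
  obtain ⟨d, hd⟩ := exists_cd k Y
  rw [HData.finsum_e_eq (good_res k hG I d hd)]
  rw [finsum_eq_single _ 0]
  · rw [pow_zero, one_mul]
    exact (Curve.euler_iso k Y (resH0Iso I)).symm
  · intro q hq
    obtain ⟨q, rfl⟩ : ∃ r, q = r + 1 := ⟨q - 1, by omega⟩
    have hz : IsZero ((ofComplex I.cocomplex).Hh (q + 1)) := resH_succ_isZero I q
    rw [Curve.euler_of_isZero k Y hz, mul_zero]

end Main

section Push

variable (k : Type u) [Field k] {X Y : Scheme.{u}}
  [X.Over (Spec (CommRingCat.of k))] [Y.Over (Spec (CommRingCat.of k))]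
  [IsProper (X ↘ Spec (CommRingCat.of k))] [IsProper (Y ↘ Spec (CommRingCat.of k))]
  (f : Y ⟶ X) [f.IsOver (Spec (CommRingCat.of k))] [HasInjectiveResolutions Y.Modules]

/-- the cohomology of `f_* I` is `R^q f_* G`. -/
noncomputable def pushHIso {G : Y.Modules} (I : InjectiveResolution G) (q : ℕ) :
    (((Scheme.Modules.pushforward f).mapHomologicalComplex
      (ComplexShape.up ℕ)).obj I.cocomplex).homology q ≅ (Coh.Rpush f q).obj G :=
  (I.isoRightDerivedObj (Scheme.Modules.pushforward f) q).symm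

include k in
lemma isProper_of_over : IsProper f := by
  haveI : IsProper (f ≫ (X ↘ Spec (CommRingCat.of k))) := by
    rw [comp_over]
    infer_instance
  exact IsProper.of_comp f (X ↘ Spec (CommRingCat.of k))

/-- the pushforward side satisfies the hypotheses. -/
theorem good_push {G : Y.Modules} (hG : Coh.IsCoh G) (I : InjectiveResolution G) (d : ℕ)
    (hd : ∀ (A : X.Modules) (p : ℕ), d < p → Subsingleton (Coh.HH X A p)) :
    ∃ N : ℕ, (ofComplex (((Scheme.Modules.pushforward f).mapHomologicalComplex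
      (ComplexShape.up ℕ)).obj I.cocomplex)).Good k N d := by
  haveI : IsProper f := isProper_of_over k f
  haveI := Curve.isLocallyNoetherian k X
  haveI := Curve.compactSpace k X
  obtain ⟨N, hN⟩ := SC.exists_isZero_RpushAb f
  refine ⟨N, ?_⟩
  exact
    { acyc := fun q p => by
        haveI : Injective (I.cocomplex.X q) := I.injective q
        haveI := SF.isFlasque_toAb_of_injective (I.cocomplex.X q)
        refine subsingleton_HH_of_isFlasque
          ((Scheme.Modules.pushforward f).obj (I.cocomplex.X q)) ?_ p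
        exact TopCat.Sheaf.IsFlasque.pushforward_isFlasque (Coh.toAb (I.cocomplex.X q)) f.base
      fin := fun q p => by
        haveI := Curve.finite_HH k X _ (RS.isCoh_Rpush f Groth.Agent.H6.HC.finCoh G hG q) p
        exact Module.Finite.equiv (CL.HHisoEquiv k (pushHIso f I q) p).symm
      van := fun q hq => by
        have h0 := hN G hG.1 q hq.le
        obtain ⟨e⟩ := RP.nonempty_toAb_Rpush_iso f G q
        have h1 : IsZero ((Coh.Rpush f q).obj G) := RP.isZero_of_isZero_τ _ (h0.of_iso e)
        exact h1.of_iso (pushHIso f I q)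
      cd := hd }

/-- **`χ(Y, G) = Σ (-1)^q χ(X, R^q f_* G)`.** -/
theorem euler_leray {G : Y.Modules} (hG : Coh.IsCoh G) :
    Curv2.euler k Y G =
      ∑ᶠ i : ℕ, (-1 : ℤ) ^ i * Curv2.euler k X ((Coh.Rpush f i).obj G) := by
  let I : InjectiveResolution G := injectiveResolution G
  obtain ⟨d, hd⟩ := exists_cd k X
  obtain ⟨N, hgood⟩ := good_push k f hG I d hd
  rw [euler_eq_finsum_e k hG I]
  have h1 : ∀ q : ℕ, (-1 : ℤ) ^ q * ((ofComplex I.cocomplex).e k q : ℤ) =
      (-1 : ℤ) ^ q * ((ofComplex (((Scheme.Modules.pushforward f).mapHomologicalComplex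
        (ComplexShape.up ℕ)).obj I.cocomplex)).e k q : ℤ) := fun q => by
    rw [e_push_eq f k I.cocomplex q]
  rw [finsum_congr h1, HData.finsum_e_eq hgood]
  refine finsum_congr (fun q => ?_)
  congr 1
  exact Curve.euler_iso k X (pushHIso f I q)

end Push

end Groth.Agent.H5.Hyper
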