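import Mathlib
import Groth.Agent.Lib.Helper5.Hyper.LerayChi
import Groth.Agent.Lib.Lead.QC.ProjFormulaLF
import Groth.Agent.Lib.Helper5.Snap.Cycle4

/-!
# Twists of higher direct images and the Leray formula for the functions `n ↦ χ(F ⊗ L^n)`
(helper5; towards S7682)
-/

set_option autoImplicit false
universe u
open CategoryTheory CategoryTheory.Limits AlgebraicGeometry TopologicalSpace

namespace Groth.Agent.H5.Hyper

open Groth.Agent.LD Groth.Agent.LD.QC Groth.Agent.H5.Curve4 Groth.Agent.H5.DegC Groth.Agent.H5.Snap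

section tp

variable {X Z : Scheme.{u}}

/-- `tpFun` only depends on the isomorphism classes of the twisting modules. -/
theorem nonempty_tp_congr : ∀ (r : ℕ) (L L' : Fin r → X.Modules)
    (_ : ∀ j, Nonempty (L j ≅ L' j)) (n : Fin r → ℕ) (F : X.Modules),
    Nonempty ((tpFun r L n).obj F ≅ (tpFun r L' n).obj F)
  | 0, _, _, _, _, _ => ⟨Iso.refl _⟩
  | r + 1, L, L', e, n, F => by
    obtain ⟨e1⟩ := nonempty_tp_congr r (fun j => L j.castSucc) (fun j => L' j.castSucc)
      (fun j => e _) (fun j => n j.castSucc) F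
    obtain ⟨e2⟩ := e (Fin.last r)
    exact ⟨tensorIso' e1 (tensorPowCongr e2 (n (Fin.last r)))⟩

variable (h : Z ⟶ X) [HasInjectiveResolutions Z.Modules]

/-- `tpFun` commutes with higher direct images (projection formula). -/
theorem nonempty_tp_Rpush_iso (q : ℕ) : ∀ (r : ℕ) (L : Fin r → X.Modules)
    (_ : ∀ j, PicF.IsInvertible (L j)) (n : Fin r → ℕ) (G : Z.Modules),
    Nonempty ((tpFun r L n).obj ((Coh.Rpush h q).obj G) ≅
      (Coh.Rpush h q).obj
        ((tpFun r (fun j => (Scheme.Modules.pullback h).obj (L j)) n).obj G))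
  | 0, _, _, _, _ => ⟨Iso.refl _⟩
  | r + 1, L, hL, n, G => by
    obtain ⟨e⟩ := nonempty_tp_Rpush_iso q r (fun j => L j.castSucc) (fun j => hL _)
      (fun j => n j.castSucc) G
    have hP := isInvertible_tensorPow (hL (Fin.last r)) (n (Fin.last r))
    have hP' : FlatMod.IsFinLocFree (CohB1.tensorPow (L (Fin.last r)) (n (Fin.last r))) :=
      Curve.isFinLocFree_of_rank ((isInvertible_iff _).mp hP)
    obtain ⟨e2⟩ := nonempty_tensor_Rpush_iso h
      ((tpFun r (fun j => (Scheme.Modules.pullback h).obj (L j.castSucc))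
        (fun j => n j.castSucc)).obj G) _ hP' q
    refine ⟨tensorIso' e (Iso.refl _) ≪≫ tensorCommAll _ _ ≪≫ e2 ≪≫
      (Coh.Rpush h q).mapIso (tensorCommAll _ _ ≪≫
        tensorIso' (Iso.refl _) (pbTensorPowIso h _ (hL (Fin.last r)) _))⟩

end tp

section leray

variable (k : Type u) [Field k] {X Z : Scheme.{u}}
  [X.Over (Spec (CommRingCat.of k))] [Z.Over (Spec (CommRingCat.of k))]
  [IsProper (X ↘ Spec (CommRingCat.of k))] [IsProper (Z ↘ Spec (CommRingCat.of k))]
  (h : Z ⟶ X) [h.IsOver (Spec (CommRingCat.of k))] [HasInjectiveResolutions Z.Modules]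

lemma chiFn_congr (r : ℕ) (L L' : Fin r → X.Modules) (e : ∀ j, Nonempty (L j ≅ L' j))
    (F : X.Modules) : chiFn k X r L F = chiFn k X r L' F := by
  funext n
  obtain ⟨e1⟩ := nonempty_tp_congr r L L' e n F
  unfold chiFn
  rw [Curve.euler_iso k X e1]

/-- **the Leray formula for the Euler characteristic functions.** -/
theorem exists_chiFn_leray : ∃ N : ℕ, 0 < N ∧ ∀ (G : Z.Modules), Coh.IsCoh G →
    (∀ q, N ≤ q → IsZero ((Coh.Rpush h q).obj G)) ∧
    ∀ (r : ℕ) (L : Fin r → X.Modules), (∀ j, PicF.IsInvertible (L j)) →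
      chiFn k Z r (fun j => (Scheme.Modules.pullback h).obj (L j)) G =
        ∑ q ∈ Finset.range N, (-1 : ℚ) ^ q • chiFn k X r L ((Coh.Rpush h q).obj G) := by
  haveI : IsProper h := isProper_of_over k h
  haveI := Curve.compactSpace k X
  obtain ⟨N₀, hN₀⟩ := SC.exists_isZero_RpushAb h
  have hz : ∀ (G : Z.Modules), Coh.IsCoh G → ∀ q, N₀ + 1 ≤ q →
      IsZero ((Coh.Rpush h q).obj G) := by
    intro G hG q hq
    have h0 := hN₀ G hG.1 q (by omega)
    obtain ⟨e⟩ := RP.nonempty_toAb_Rpush_iso h G q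
    exact RP.isZero_of_isZero_τ _ (h0.of_iso e)
  refine ⟨N₀ + 1, Nat.succ_pos _, fun G hG => ⟨hz G hG, fun r L hL => ?_⟩⟩
  funext n
  have hL' : ∀ j, PicF.IsInvertible ((Scheme.Modules.pullback h).obj (L j)) :=
    fun j => isInvertible_pullback h (hL j)
  have hGn : Coh.IsCoh ((tpFun r (fun j => (Scheme.Modules.pullback h).obj (L j)) n).obj G) :=
    isCoh_tpFun r _ hL' n G hG
  have h1 := euler_leray k h hGn
  have h2 : ∀ q : ℕ, Curv2.euler k X ((Coh.Rpush h q).obj
      ((tpFun r (fun j => (Scheme.Modules.pullback h).obj (L j)) n).obj G)) =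
      Curv2.euler k X ((tpFun r L n).obj ((Coh.Rpush h q).obj G)) := by
    intro q
    obtain ⟨e⟩ := nonempty_tp_Rpush_iso h q r L hL n G
    exact (Curve.euler_iso k X e).symm
  have h3 : (∑ᶠ i : ℕ, (-1 : ℤ) ^ i * Curv2.euler k X ((Coh.Rpush h i).obj
      ((tpFun r (fun j => (Scheme.Modules.pullback h).obj (L j)) n).obj G))) =
      ∑ q ∈ Finset.range (N₀ + 1), (-1 : ℤ) ^ q *
        Curv2.euler k X ((tpFun r L n).obj ((Coh.Rpush h q).obj G)) := by
    rw [finsum_eq_sum_of_support_subset (s := Finset.range (N₀ + 1))]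
    · exact Finset.sum_congr rfl (fun q _ => by rw [h2 q])
    · intro q hq
      rw [Function.mem_support] at hq
      rw [Finset.coe_range, Set.mem_Iio]
      by_contra hlt
      apply hq
      rw [Curve.euler_of_isZero k X (hz _ hGn q (by omega)), mul_zero]
  rw [h3] at h1
  change (Curv2.euler k Z ((tpFun r (fun j => (Scheme.Modules.pullback h).obj (L j)) n).obj G) : ℚ) =
    (∑ q ∈ Finset.range (N₀ + 1), (-1 : ℚ) ^ q • chiFn k X r L ((Coh.Rpush h q).obj G)) n
  rw [h1, Finset.sum_apply]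
  push_cast
  refine Finset.sum_congr rfl (fun q _ => ?_)
  rw [Pi.smul_apply, smul_eq_mul]
  rfl

end leray

end Groth.Agent.H5.Hyper
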