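import Mathlib
import Groth.Agent.Lib.Helper5.Hyper.TpRpush
import Groth.Agent.Lib.Helper6.GenFin
import Groth.Agent.Lib.Helper3.DimMap
import Groth.Agent.Lib.Helper5.Snap.IntGrp
import Groth.Agent.Lib.Helper5.DegC.GenRank
import Groth.Agent.Lib.Lead.DF.Sec
import Groth.Agent.Lib.Lead.QCQS.Main
import Groth.Agent.Lib.Helper5.Snap.Main

/-!
# Intersection numbers of pullbacks along a dominant morphism of integral proper schemes
(helper5; towards S7682)
-/

set_option autoImplicit false
universe u
open CategoryTheory CategoryTheory.Limits AlgebraicGeometry TopologicalSpace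

namespace Groth.Agent.H5.Hyper

open Groth.Agent.LD Groth.Agent.LD.QC Groth.Agent.H5.Curve4 Groth.Agent.H5.DegC Groth.Agent.H5.Snap

section gdim

variable {X Y : Scheme.{u}} [IsIntegral X] [IsIntegral Y] (f : X ⟶ Y)

/-- the generic rank of `f_* O_X` is the degree of the extension of function fields, as soon as
the preimage of some affine neighbourhood of the generic point is affine. -/
theorem gdim_push_unit' [QuasiCompact f] [QuasiSeparated f] (V : Y.Opens) (hV : IsAffineOpen V)
    (hηV : genericPoint Y ∈ V) (hU : IsAffineOpen (f ⁻¹ᵁ V))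
    (hξ : f (genericPoint X) = genericPoint Y) :
    gdim ((Scheme.Modules.pushforward f).obj (unitMod X)) = f.residueDegree (genericPoint X) := by
  have hyV : f (genericPoint X) ∈ V := by rw [hξ]; exact hηV
  have hηU : genericPoint X ∈ f ⁻¹ᵁ V := hyV
  haveI : (unitMod X).IsQuasicoherent := inferInstance
  haveI : ((Scheme.Modules.pushforward f).obj (unitMod X)).IsQuasicoherent :=
    qc_pushforward f (unitMod X)
  rw [gdim_eq_finrank_sections _ hV hηV]
  letI aAB : Algebra Γ(Y, V) Γ(X, f ⁻¹ᵁ V) := (f.app V).hom.toAlgebra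
  letI aAK : Algebra Γ(Y, V) (Y.residueField (f (genericPoint X))) :=
    (Y.evaluation V (f (genericPoint X)) hyV).hom.toAlgebra
  letI aBL : Algebra Γ(X, f ⁻¹ᵁ V) (X.residueField (genericPoint X)) :=
    (X.evaluation (f ⁻¹ᵁ V) (genericPoint X) hηU).hom.toAlgebra
  letI aKL : Algebra (Y.residueField (f (genericPoint X))) (X.residueField (genericPoint X)) :=
    (f.residueFieldMap (genericPoint X)).hom.toAlgebra
  letI aAL : Algebra Γ(Y, V) (X.residueField (genericPoint X)) :=
    ((X.evaluation (f ⁻¹ᵁ V) (genericPoint X) hηU).hom.comp (f.app V).hom).toAlgebra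
  haveI : IsScalarTower Γ(Y, V) Γ(X, f ⁻¹ᵁ V) (X.residueField (genericPoint X)) :=
    IsScalarTower.of_algebraMap_eq (fun a => rfl)
  haveI : IsScalarTower Γ(Y, V) (Y.residueField (f (genericPoint X)))
      (X.residueField (genericPoint X)) :=
    IsScalarTower.of_algebraMap_eq (fun a =>
      (Scheme.evaluation_naturality_apply f (V := V) (genericPoint X) hyV a).symm)
  haveI : IsFractionRing Γ(Y, V) (Y.residueField (f (genericPoint X))) :=
    isFractionRing_residueField hV _ hξ hyV
  haveI : IsFractionRing Γ(X, f ⁻¹ᵁ V) (X.residueField (genericPoint X)) :=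
    isFractionRing_residueField hU _ rfl hηU
  have key := IsFractionRing.finrank_eq Γ(Y, V) (Y.residueField (f (genericPoint X)))
    Γ(X, f ⁻¹ᵁ V) (X.residueField (genericPoint X))
  exact key.symm

end gdim

section genfin

/-- generic finiteness, with an affine neighbourhood of the generic point. -/
theorem exists_affine_finite (k : Type u) [Field k] {X Y : Scheme.{u}}
    (qX : X ⟶ Spec (CommRingCat.of k)) (qY : Y ⟶ Spec (CommRingCat.of k))
    [LocallyOfFiniteType qX] [QuasiCompact qX] [LocallyOfFiniteType qY]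
    [IsIntegral X] [IsIntegral Y] (f : X ⟶ Y) (hgen : f (genericPoint X) = genericPoint Y)
    (hf : f ≫ qY = qX)
    (hdim : topologicalKrullDim ↥X = topologicalKrullDim ↥Y) :
    ∃ V : Y.Opens, IsAffineOpen V ∧ genericPoint Y ∈ V ∧ IsFinite (f ∣_ V) := by
  haveI : LocallyOfFiniteType (f ≫ qY) := by rw [hf]; infer_instance
  haveI hlft : LocallyOfFiniteType f := locallyOfFiniteType_of_comp f qY
  haveI : IsLocallyNoetherian X := LocallyOfFiniteType.isLocallyNoetherian qX
  haveI : CompactSpace X := QuasiCompact.compactSpace_of_compactSpace qX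
  haveI : IsNoetherian X := {}
  haveI : QuasiCompact f := inferInstance
  exact Groth.Agent.H5.GF.exists_isFinite_of_fiber_generic f
    (by rw [irreducibleComponents_eq_singleton]; exact Set.finite_singleton _)
    (genericPoint Y)
    (by
      rw [irreducibleComponents_eq_singleton, Set.mem_singleton_iff]
      exact (genericPoint_spec Y).def)
    (fun x hx => by
      rw [Groth.Agent.H6.GenFin.fibre_generic_eq qX qY f hf hgen hdim x hx,
        irreducibleComponents_eq_singleton, Set.mem_singleton_iff]
      exact (genericPoint_spec X).def)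

end genfin

section tors

variable {Z W : Scheme.{u}} [IsIntegral W] (g : Z ⟶ W) [HasInjectiveResolutions Z.Modules]

/-- higher direct images are torsion when the morphism is affine over a neighbourhood of the
generic point. -/
theorem isTors_Rpush (V : W.Opens) (hηV : genericPoint W ∈ V) [IsAffineHom (g ∣_ V)]
    (G : Z.Modules) [G.IsQuasicoherent] (q : ℕ) (hq : 0 < q) :
    IsTors ((Coh.Rpush g q).obj G) := by
  haveI := QCQS.hasInjRes (g ⁻¹ᵁ V).toScheme
  obtain ⟨e⟩ := QCQS.nonempty_restrict_Rpush_iso g V G q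
  haveI : (G.restrict (g ⁻¹ᵁ V).ι).IsQuasicoherent := QC.qc_restrict _ G
  have hz : IsZero (((Scheme.Modules.pushforward (g ∣_ V)).rightDerived q).obj
      (G.restrict (g ⁻¹ᵁ V).ι)) := QCQS.isZero_Rpush_of_isAffineHom (g ∣_ V) _ q hq
  have hz' : IsZero ((Scheme.Modules.restrictFunctor V.ι).obj ((Coh.Rpush g q).obj G)) :=
    hz.of_iso e
  have hd := DF.support_disjoint_of_isZero_restrict V.ι hz'
  unfold IsTors
  by_contra hns
  exact Set.disjoint_left.mp hd ⟨⟨genericPoint W, hηV⟩, rfl⟩ hns

end tors

section main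

variable (k : Type u) [Field k] {Z W : Scheme.{u}} [IsIntegral Z] [IsIntegral W]
  [Z.Over (Spec (CommRingCat.of k))] [W.Over (Spec (CommRingCat.of k))]
  [IsProper (Z ↘ Spec (CommRingCat.of k))] [IsProper (W ↘ Spec (CommRingCat.of k))]
  (g : Z ⟶ W) [g.IsOver (Spec (CommRingCat.of k))]

include k in
lemma surjective_of_map_genericPoint (hgen : g (genericPoint Z) = genericPoint W) :
    Function.Surjective g := by
  haveI := QCQS.hasInjRes Z
  haveI : IsProper g := isProper_of_over k g
  have hcl : IsClosed (Set.range g) := g.isClosedMap.isClosed_range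
  intro w
  have h1 : closure ({genericPoint W} : Set W) ⊆ Set.range g :=
    hcl.closure_subset_iff.mpr (Set.singleton_subset_iff.mpr ⟨genericPoint Z, hgen⟩)
  rw [(genericPoint_spec W).def] at h1
  exact h1 (Set.mem_univ w)

/-- **the intersection number of pullbacks along a dominant morphism of integral proper
schemes**: `(g^*M_1 ⋯ g^*M_d · Z) = deg(g) (M_1 ⋯ M_d · W)` for `d = dim Z`. -/
theorem mixDiff_pullback_eq (hgen : g (genericPoint Z) = genericPoint W) (d : ℕ)
    (hd : topologicalKrullDim Z = d) (M : Fin d → W.Modules)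
    (hM : ∀ i, PicF.IsInvertible (M i)) :
    mixDiffL d (chiFn k Z d (fun j => (Scheme.Modules.pullback g).obj (M j)) (unitMod Z)) =
      (g.residueDegree (genericPoint Z) : ℚ) * mixDiffL d (chiFn k W d M (unitMod W)) := by
  haveI := QCQS.hasInjRes Z
  haveI : IsNoetherian W := Curve2.isNoetherian_of_proper k W
  haveI : IsProper g := isProper_of_over k g
  haveI := Curve.isLocallyNoetherian k W
  have hdimW : topologicalKrullDim W ≤ d := by
    rw [← hd]
    exact Groth.Agent.H3.DimMap.dim_le_of_closed g g.continuous g.isClosedMap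
      (surjective_of_map_genericPoint k g hgen)
  obtain ⟨N, hNpos, hN⟩ := exists_chiFn_leray k g
  have hOc : Coh.IsCoh (unitMod Z) := Groth.Agent.LD.PF.isCoh_unitMod Z
  have hOWc : Coh.IsCoh (unitMod W) := Groth.Agent.LD.PF.isCoh_unitMod W
  obtain ⟨hzero, hformula⟩ := hN (unitMod Z) hOc
  rw [hformula d M hM, map_sum]
  simp only [map_smul]
  -- the additive function
  set φ : W.Modules → ℚ := fun F => mixDiffL d (chiFn k W d M F) with hφ
  have hiso : ∀ F F' : W.Modules, (F ≅ F') → φ F = φ F' := fun F F' e => by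
    simp only [hφ]
    rw [chiFn_iso k d M e]
  have hadd : ∀ S : ShortComplex W.Modules, S.ShortExact → Coh.IsCoh S.X₁ → Coh.IsCoh S.X₂ →
      Coh.IsCoh S.X₃ → φ S.X₂ = φ S.X₁ + φ S.X₃ := fun S hS h1 h2 h3 => by
    simp only [hφ]
    rw [chiFn_add k d M hM S hS h1 h2 h3, map_add]
  have hsmall : ∀ T : W.Modules, Coh.IsCoh T →
      topologicalKrullDim (CohB1.support T) < (d : WithBot ℕ∞) → φ T = 0 := fun T hT hlt =>
    mixDiffL_eq_zero _ (snapper_aux k d W T hT hlt d M hM)
  have htors : ∀ T : W.Modules, Coh.IsCoh T → IsTors T → φ T = 0 := fun T hT ht => by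
    apply hsmall T hT
    apply dim_lt_of_isClosed_ne_univ _ (isClosed_support_of_isCoh hT) _ d hdimW
    intro heq
    have h1 : genericPoint W ∈ CohB1.support T := by rw [heq]; trivial
    exact h1 ht
  have hkey : ∀ q, mixDiffL d (chiFn k W d M ((Coh.Rpush g q).obj (unitMod Z))) =
      gdim ((Coh.Rpush g q).obj (unitMod Z)) • mixDiffL d (chiFn k W d M (unitMod W)) := fun q =>
    eq_gdim_smul φ hiso hadd htors _ (RS.isCoh_Rpush g Groth.Agent.H6.HC.finCoh _ hOc q)
  rcases lt_or_eq_of_le hdimW with hlt | heq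
  · have h0 : mixDiffL d (chiFn k W d M (unitMod W)) = 0 := by
      apply hsmall _ hOWc
      exact lt_of_le_of_lt Topology.IsInducing.subtypeVal.topologicalKrullDim_le hlt
    rw [h0, mul_zero]
    apply Finset.sum_eq_zero
    intro q _
    rw [hkey q, h0, smul_zero, smul_zero]
  · obtain ⟨V, hV, hηV, hfin⟩ := exists_affine_finite k (Z ↘ Spec (CommRingCat.of k))
      (W ↘ Spec (CommRingCat.of k)) g hgen (comp_over g _) (hd.trans heq.symm)
    haveI := hfin
    haveI : IsAffineHom (g ∣_ V) := inferInstance
    have hU : IsAffineOpen (g ⁻¹ᵁ V) := by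
      haveI : IsAffine V.toScheme := hV
      exact isAffine_of_isAffineHom (g ∣_ V)
    have hgd : ∀ q, 0 < q → gdim ((Coh.Rpush g q).obj (unitMod Z)) = 0 := fun q hq =>
      gdim_of_isTors (isTors_Rpush g V hηV (unitMod Z) q hq)
    have hg0 : gdim ((Coh.Rpush g 0).obj (unitMod Z)) = g.residueDegree (genericPoint Z) := by
      rw [gdim_iso ((Functor.rightDerivedZeroIsoSelf (Scheme.Modules.pushforward g)).app
        (unitMod Z))]
      exact gdim_push_unit' g V hV hηV hU hgen
    rw [Finset.sum_eq_single 0]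
    · rw [pow_zero, one_smul, hkey 0, hg0, nsmul_eq_mul]
    · intro q _ hq0
      rw [hkey q, hgd q (Nat.pos_of_ne_zero hq0), zero_smul, smul_zero]
    · intro h0
      exact absurd (Finset.mem_range.mpr hNpos) h0

end main

end Groth.Agent.H5.Hyper
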