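import Mathlib
import Groth.Agent.Lib.Helper5.IntN.BC3
import Groth.Agent.Lib.Helper1.RelDim
import Groth.Agent.Lib.Helper5.Hyper.PushInt2

/-!
# Birational projective covers of integral proper schemes (helper5; towards S11370)
-/

set_option autoImplicit false
universe u
open CategoryTheory CategoryTheory.Limits AlgebraicGeometry TopologicalSpace

namespace Groth.Agent.H5.Hyper

open Groth.Agent.LD Groth.Agent.LD.QC

section stalk

variable {A B : Scheme.{u}} (f : A ⟶ B) (x : A)

lemma residueFieldMap_bijective_of_stalkMap_surjective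
    (hs : Function.Surjective (f.stalkMap x).hom) :
    Function.Bijective (f.residueFieldMap x).hom := by
  constructor
  · exact RingHom.injective _
  · intro z
    obtain ⟨b, rfl⟩ := IsLocalRing.residue_surjective z
    obtain ⟨c, rfl⟩ := hs b
    exact ⟨(B.residue (f x)).hom c,
      congrArg (fun φ => φ.hom c) (Scheme.residue_residueFieldMap f x)⟩

lemma residueDegree_eq_one_of_stalkMap_surjective
    (hs : Function.Surjective (f.stalkMap x).hom) : f.residueDegree x = 1 := by
  have hb := residueFieldMap_bijective_of_stalkMap_surjective f x hs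
  letI a : Algebra (B.residueField (f x)) (A.residueField x) :=
    (f.residueFieldMap x).hom.toAlgebra
  change @Module.finrank (B.residueField (f x)) (A.residueField x) _ _ a.toModule = 1
  let e : B.residueField (f x) ≃ₗ[B.residueField (f x)] A.residueField x :=
    LinearEquiv.ofBijective (Algebra.linearMap _ _) hb
  rw [← e.finrank_eq]
  exact Module.finrank_self _

lemma stalkMap_surjective_of_isIso_restrict {W Z : Scheme.{u}} (π : W ⟶ Z) (U : Z.Opens)
    [IsIso (π ∣_ U)] (w : W) (hw : π w ∈ U) : Function.Surjective (π.stalkMap w).hom := by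
  have e := morphismRestrictStalkMap π U ⟨w, hw⟩
  have h1 : IsIso ((π ∣_ U).stalkMap ⟨w, hw⟩) := inferInstance
  have h2 : IsIso (π.stalkMap w) :=
    ((MorphismProperty.isomorphisms CommRingCat).arrow_mk_iso_iff e).mp h1
  exact (ConcreteCategory.bijective_of_isIso (π.stalkMap w)).2

end stalk

section dim

variable {k : Type u} [Field k] {W Z : Scheme.{u}} (gW : W ⟶ Spec (CommRingCat.of k))
  [LocallyOfFiniteType gW] (gZ : Z ⟶ Spec (CommRingCat.of k)) [LocallyOfFiniteType gZ]
  [IrreducibleSpace Z]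

include gW gZ in
theorem dim_closure_eq_of_isIso_restrict (π : W ⟶ Z) (U : Z.Opens) [IsIso (π ∣_ U)] (ξ : W)
    (hξ : π ξ = genericPoint Z) (hU : (U : Set Z).Nonempty) :
    topologicalKrullDim (closure ({ξ} : Set W)) = topologicalKrullDim Z := by
  have hηU : genericPoint Z ∈ U :=
    ((genericPoint_spec Z).mem_open_set_iff U.2).mpr (by simpa [Set.univ_inter] using hU)
  have hξU : ξ ∈ π ⁻¹ᵁ U := by
    change π ξ ∈ U
    rw [hξ]; exact hηU
  -- step 1
  have h1 := Groth.Agent.H1.RelDim.dim_inter_eq_dim gW (closure ({ξ} : Set W))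
    isIrreducible_singleton.closure isClosed_closure (π ⁻¹ᵁ U) ⟨ξ, hξU, subset_closure rfl⟩
  -- step 2
  have h2 : ((π ⁻¹ᵁ U : W.Opens) : Set W) ∩ closure ({ξ} : Set W) = ((π ⁻¹ᵁ U : W.Opens) : Set W) := by
    apply Set.inter_eq_left.mpr
    intro w hw
    rw [← specializes_iff_mem_closure]
    let φ := (Scheme.homeoOfIso (asIso (π ∣_ U)))
    let x₀ : (π ⁻¹ᵁ U).toScheme := ⟨ξ, hξU⟩
    let x₁ : (π ⁻¹ᵁ U).toScheme := ⟨w, hw⟩
    let y₀ : U.toScheme := ⟨genericPoint Z, hηU⟩
    have hφξ : φ x₀ = y₀ :=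
      Subtype.ext ((morphismRestrict_base_coe π U x₀).trans hξ)
    have hsp : y₀ ⤳ φ x₁ :=
      (Topology.IsInducing.subtypeVal.specializes_iff).mp
        (show (genericPoint Z) ⤳ (φ x₁).1 from genericPoint_specializes _)
    have hsp2 := hsp.map φ.symm.continuous
    rw [← hφξ, Homeomorph.symm_apply_apply, Homeomorph.symm_apply_apply] at hsp2
    exact hsp2.map continuous_subtype_val
  rw [h2] at h1
  -- step 3
  have h3 : topologicalKrullDim ↥((π ⁻¹ᵁ U : W.Opens) : Set W) =
      topologicalKrullDim ↥((U : Z.Opens) : Set Z) :=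
    IsHomeomorph.topologicalKrullDim_eq _ (Scheme.homeoOfIso (asIso (π ∣_ U))).isHomeomorph
  -- step 4
  have h4 := Groth.Agent.H1.RelDim.dim_inter_eq_dim gZ (Set.univ : Set Z)
    (IrreducibleSpace.isIrreducible_univ Z) isClosed_univ U
    (by simpa [Set.inter_univ] using hU)
  rw [Set.inter_univ] at h4
  have h5 : topologicalKrullDim ↥(Set.univ : Set Z) = topologicalKrullDim Z :=
    IsHomeomorph.topologicalKrullDim_eq _ (Homeomorph.Set.univ Z).isHomeomorph
  rw [← h1, h3, h4, h5]

end dim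

section chow

variable (k : Type u) [Field k]

/-- **birational projective covers (Chow's lemma)**. -/
theorem exists_birational_projective (Z : Scheme.{u}) [Z.Over (Spec (CommRingCat.of k))]
    [IsProper (Z ↘ Spec (CommRingCat.of k))] [IsIntegral Z] :
    ∃ (W : Scheme.{u}) (pW : W ⟶ Spec (CommRingCat.of k)) (π : W ⟶ Z) (A A' : W.Modules)
      (ξ : W), IsProper pW ∧ π ≫ (Z ↘ Spec (CommRingCat.of k)) = pW ∧ CohB1.IsAmple A ∧
      Nonempty (CohB1.tensorMod A A' ≅ Coh.structureModule W) ∧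
      π ξ = genericPoint Z ∧
      topologicalKrullDim (closure ({ξ} : Set W)) = topologicalKrullDim Z ∧
      Function.Surjective (π.stalkMap ξ).hom := by
  obtain ⟨N, W, c, X₀, hc, hρ, hne, hiso⟩ :=
    Groth.Agent.LD.Chow.chow_lemma k (Z ↘ Spec (CommRingCat.of k))
  haveI := hc
  haveI := hρ
  haveI := hiso
  haveI : IsProper (Groth.Agent.LD.Chow.pStr N k) := by
    rw [Groth.Agent.LD.Chow.pStr_eq]; exact Groth.Agent.H5.AG.isProper_toSpec N k
  have hcond : (c ≫ pullback.fst (Z ↘ Spec (CommRingCat.of k)) (Groth.Agent.LD.Chow.pStr N k)) ≫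
      (Z ↘ Spec (CommRingCat.of k)) =
      (c ≫ pullback.snd (Z ↘ Spec (CommRingCat.of k)) (Groth.Agent.LD.Chow.pStr N k)) ≫
        Groth.Agent.LD.Chow.pStr N k := by
    rw [Category.assoc, Category.assoc, pullback.condition]
  haveI hprop : IsProper ((c ≫ pullback.fst (Z ↘ Spec (CommRingCat.of k))
      (Groth.Agent.LD.Chow.pStr N k)) ≫ (Z ↘ Spec (CommRingCat.of k))) := by
    rw [hcond]; infer_instance
  obtain ⟨π, hπ⟩ : ∃ π : W ⟶ Z, π = c ≫ pullback.fst (Z ↘ Spec (CommRingCat.of k))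
    (Groth.Agent.LD.Chow.pStr N k) := ⟨_, rfl⟩
  rw [← hπ] at hprop hiso
  haveI := hiso
  obtain ⟨-, A, A', hA, eA⟩ := Groth.Agent.LD.PN.exists_ample_of_immersion N k
    (c ≫ pullback.snd (Z ↘ Spec (CommRingCat.of k)) (Groth.Agent.LD.Chow.pStr N k))
  have hηU : genericPoint Z ∈ X₀ :=
    ((genericPoint_spec Z).mem_open_set_iff X₀.2).mpr (by simpa [Set.univ_inter] using hne)
  obtain ⟨w, hw⟩ := (π ∣_ X₀).surjective ⟨genericPoint Z, hηU⟩
  have hξ : π w.1 = genericPoint Z :=
    (morphismRestrict_base_coe π X₀ w).symm.trans (congrArg Subtype.val hw)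
  haveI : LocallyOfFiniteType (π ≫ (Z ↘ Spec (CommRingCat.of k))) := inferInstance
  refine ⟨W, π ≫ (Z ↘ Spec (CommRingCat.of k)), π, A, A', w.1, hprop, rfl, hA, eA, hξ, ?_, ?_⟩
  · exact dim_closure_eq_of_isIso_restrict (π ≫ (Z ↘ Spec (CommRingCat.of k)))
      (Z ↘ Spec (CommRingCat.of k)) π X₀ w.1 hξ hne
  · exact stalkMap_surjective_of_isIso_restrict π X₀ w.1 (by rw [hξ]; exact hηU)

end chow

end Groth.Agent.H5.Hyper
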