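import Mathlib
import Groth.Agent.Lib.Helper5.Hyper.PushInt
import Groth.Agent.Lib.Helper1.FibDimTot
import Groth.Agent.Lib.Helper1.ClosureDim

/-!
# Generically finite dominant morphisms: equality of dimensions and the rank of `f_* O_Y`
(helper5; S17375)
-/

set_option autoImplicit false
universe u
open CategoryTheory CategoryTheory.Limits AlgebraicGeometry TopologicalSpace

namespace Groth.Agent.H5.Hyper

open Groth.Agent.LD Groth.Agent.LD.QC Groth.Agent.H5.Curve4 Groth.Agent.H5.DegC Groth.Agent.H5.Snap

/-- a dominant morphism of integral schemes locally of finite type over a field with finite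
extension of function fields is between schemes of the same dimension. -/
theorem dim_eq_of_residueDegree_pos (k : Type u) [Field k] {X Y : Scheme.{u}}
    (qX : X ⟶ Spec (CommRingCat.of k)) (qY : Y ⟶ Spec (CommRingCat.of k))
    [LocallyOfFiniteType qX] [LocallyOfFiniteType qY] [IsIntegral X] [IsIntegral Y]
    (f : Y ⟶ X) (hf : f ≫ qX = qY) (hgen : f (genericPoint Y) = genericPoint X)
    (hpos : 0 < f.residueDegree (genericPoint Y)) :
    topologicalKrullDim Y = topologicalKrullDim X := by
  haveI : LocallyOfFiniteType (f ≫ qX) := by rw [hf]; infer_instance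
  obtain ⟨tY, htY, hdY⟩ :=
    Groth.Agent.H1.ClosureDim.exists_trdeg_eq_dim_closure (f ≫ qX) (genericPoint Y)
  obtain ⟨tX, htX, hdX⟩ :=
    Groth.Agent.H1.ClosureDim.exists_trdeg_eq_dim_closure qX (f (genericPoint Y))
  rw [Groth.Agent.H6.GenFin.dim_closure_genericPoint] at hdY
  rw [hgen, Groth.Agent.H6.GenFin.dim_closure_genericPoint] at hdX
  have hadd := Groth.Agent.H1.FibDimTot.trdeg_residueField_add qX f (genericPoint Y)
  have h0 : @Algebra.trdeg (X.residueField (f (genericPoint Y))) (Y.residueField (genericPoint Y))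
      _ _ (f.residueFieldMap (genericPoint Y)).hom.toAlgebra = 0 := by
    letI := (f.residueFieldMap (genericPoint Y)).hom.toAlgebra
    haveI : Module.Finite (X.residueField (f (genericPoint Y)))
        (Y.residueField (genericPoint Y)) := Module.finite_of_finrank_pos hpos
    haveI : Algebra.IsAlgebraic (X.residueField (f (genericPoint Y)))
        (Y.residueField (genericPoint Y)) := Algebra.IsAlgebraic.of_finite _ _
    exact _root_.trdeg_eq_zero
  rw [h0, add_zero, htX, htY] at hadd
  have ht : tX = tY := by exact_mod_cast hadd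
  rw [hdY, hdX, ht]

section

variable (k : Type u) [Field k] {X Y : Scheme.{u}}
  [X.Over (Spec (CommRingCat.of k))] [Y.Over (Spec (CommRingCat.of k))]
  [IsProper (X ↘ Spec (CommRingCat.of k))] [IsProper (Y ↘ Spec (CommRingCat.of k))]
  [IsIntegral X] [IsIntegral Y]

/-- for a dominant generically finite morphism of integral proper schemes, the generic rank of
`f_* O_Y` is the degree of the extension of function fields. -/
theorem gdim_push_unit_eq (f : Y ⟶ X)
    (hf : f ≫ (X ↘ Spec (CommRingCat.of k)) = Y ↘ Spec (CommRingCat.of k))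
    (hgen : f (genericPoint Y) = genericPoint X)
    (hpos : 0 < f.residueDegree (genericPoint Y)) :
    topologicalKrullDim Y = topologicalKrullDim X ∧
    gdim ((Scheme.Modules.pushforward f).obj (unitMod Y)) = f.residueDegree (genericPoint Y) := by
  have hdim := dim_eq_of_residueDegree_pos k (X ↘ Spec (CommRingCat.of k))
    (Y ↘ Spec (CommRingCat.of k)) f hf hgen hpos
  refine ⟨hdim, ?_⟩
  obtain ⟨V, hV, hηV, hfin⟩ := exists_affine_finite k (Y ↘ Spec (CommRingCat.of k))
    (X ↘ Spec (CommRingCat.of k)) f hgen hf hdim
  haveI := hfin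
  haveI : IsAffineHom (f ∣_ V) := inferInstance
  have hU : IsAffineOpen (f ⁻¹ᵁ V) := by
    haveI : IsAffine V.toScheme := hV
    exact isAffine_of_isAffineHom (f ∣_ V)
  haveI : f.IsOver (Spec (CommRingCat.of k)) := ⟨hf⟩
  haveI := QCQS.hasInjRes Y
  haveI : IsProper f := isProper_of_over k f
  exact gdim_push_unit' f V hV hηV hU hgen

end

end Groth.Agent.H5.Hyper
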