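import Mathlib
import Groth.Agent.Lib.Helper5.Hyper.LerayChi
import Groth.Agent.Lib.Lead.QC.ProjFormulaLF
import Groth.Agent.Lib.Lead.QC.PullInv
import Groth.Agent.Lib.Lead.QC.FiniteFree
import Groth.Agent.Lib.Lead.FBC.EulerBC

/-!
# `H^0(Y, (f^*L)^m) = H^0(X, f_*O_Y ⊗ L^m)` (helper5; S17375, S17285)
-/

set_option autoImplicit false
universe u
open CategoryTheory CategoryTheory.Limits AlgebraicGeometry TopologicalSpace

namespace Groth.Agent.H5.Hyper

open Groth.Agent.LD Groth.Agent.LD.QC

section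

variable {X Y : Scheme.{u}} (f : Y ⟶ X) (k : Type u) [Field k]
  [X.Over (Spec (CommRingCat.of k))] [Y.Over (Spec (CommRingCat.of k))]
  [f.IsOver (Spec (CommRingCat.of k))]

/-- `f_* f^* E ≅ f_* O_Y ⊗ E` for a finite locally free `E`. -/
theorem nonempty_push_pullback_iso (E : X.Modules) (hE : FlatMod.IsFinLocFree E) :
    Nonempty ((Scheme.Modules.pushforward f).obj ((Scheme.Modules.pullback f).obj E) ≅
      CohB1.tensorMod ((Scheme.Modules.pushforward f).obj (unitMod Y)) E) := by
  haveI := isIso_projHomL f (unitMod Y) E hE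
  have e1 : CohB1.tensorMod E ((Scheme.Modules.pushforward f).obj (unitMod Y)) ≅
      (Scheme.Modules.pushforward f).obj
        (CohB1.tensorMod ((Scheme.Modules.pullback f).obj E) (unitMod Y)) :=
    asIso (projHomL f (unitMod Y) E)
  have e2 : (Scheme.Modules.pushforward f).obj
        (CohB1.tensorMod ((Scheme.Modules.pullback f).obj E) (unitMod Y)) ≅
      (Scheme.Modules.pushforward f).obj ((Scheme.Modules.pullback f).obj E) :=
    (Scheme.Modules.pushforward f).mapIso (SecTwist.unitorR _)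
  exact ⟨e2.symm ≪≫ e1.symm ≪≫ tensorCommAll _ _⟩

/-- `h^0(Y, (f^*L)^m) = h^0(X, f_*O_Y ⊗ L^m)`. -/
theorem finrank_HH_pullback_tensorPow (L : X.Modules) (hL : PicF.IsInvertible L) (m : ℕ) :
    Module.finrank k (Coh.HH Y (CohB1.tensorPow ((Scheme.Modules.pullback f).obj L) m) 0) =
      Module.finrank k (Coh.HH X (CohB1.tensorMod ((Scheme.Modules.pushforward f).obj (unitMod Y))
        (CohB1.tensorPow L m)) 0) := by
  have hLm : PicF.IsInvertible (CohB1.tensorPow L m) := isInvertible_tensorPow hL m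
  obtain ⟨e⟩ := nonempty_push_pullback_iso f (CohB1.tensorPow L m)
    (isFinLocFree_of_isInvertible _ hLm)
  rw [FBC.finrank_HH_congr k (pbTensorPowIso f L hL m).symm 0, ← (edge0 f k _).finrank_eq,
    FBC.finrank_HH_congr k e 0]

end

end Groth.Agent.H5.Hyper
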