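import Mathlib
import Groth.Agent.Lib.Helper5.Hyper.FinDeg
import Groth.Agent.Lib.Helper5.Hyper.H0Push
import Groth.Agent.Lib.Helper5.IntN.RankBound
import Groth.Agent.Lib.Helper5.IntN.RankArith

/-!
# `h^0(Y, (f^*L)^m) = deg(f) · h^0(X, L^m) + O(m^{d-1})` for a dominant generically finite `f`
(helper5; S17375)
-/

set_option autoImplicit false
universe u
open CategoryTheory CategoryTheory.Limits AlgebraicGeometry TopologicalSpace Filter

namespace Groth.Agent.H5.Hyper

open Groth.Agent.LD Groth.Agent.LD.QC Groth.Agent.H5.Curve4 Groth.Agent.H5.DegC Groth.Agent.H5.Snap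
open Groth.Agent.H5.IntN

variable (k : Type u) [Field k] {X Y : Scheme.{u}}
  [X.Over (Spec (CommRingCat.of k))] [Y.Over (Spec (CommRingCat.of k))]
  [IsProper (X ↘ Spec (CommRingCat.of k))] [IsProper (Y ↘ Spec (CommRingCat.of k))]
  [IsIntegral X] [IsIntegral Y]

/-- `f_* O_Y` is coherent for a morphism of proper schemes over a field. -/
theorem isCoh_push_unit (f : Y ⟶ X)
    (hf : f ≫ (X ↘ Spec (CommRingCat.of k)) = Y ↘ Spec (CommRingCat.of k)) :
    Coh.IsCoh ((Scheme.Modules.pushforward f).obj (unitMod Y)) := by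
  haveI : f.IsOver (Spec (CommRingCat.of k)) := ⟨hf⟩
  haveI := QCQS.hasInjRes Y
  haveI : IsProper f := isProper_of_over k f
  haveI := Curve.isLocallyNoetherian k X
  have hOc : Coh.IsCoh (unitMod Y) := Groth.Agent.LD.PF.isCoh_unitMod Y
  have hcoh0 : Coh.IsCoh ((Coh.Rpush f 0).obj (unitMod Y)) :=
    RS.isCoh_Rpush f Groth.Agent.H6.HC.finCoh _ hOc 0
  exact isCoh_of_iso ((Functor.rightDerivedZeroIsoSelf (Scheme.Modules.pushforward f)).app
    (unitMod Y)) hcoh0

/-- **S17375**. -/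
theorem isBigO_h0_pullback (H : X.Modules) (hH : CohB1.IsAmple H) (d : ℕ)
    (hd : topologicalKrullDim X = d) (f : Y ⟶ X)
    (hf : f ≫ (X ↘ Spec (CommRingCat.of k)) = Y ↘ Spec (CommRingCat.of k))
    (hgen : f (genericPoint Y) = genericPoint X) (n : ℕ)
    (hn : f.residueDegree (genericPoint Y) = n) (hn0 : 0 < n)
    (L : X.Modules) (hL : PicF.IsInvertible L) :
    (fun m : ℕ => (Module.finrank k (Coh.HH Y
        (CohB1.tensorPow ((Scheme.Modules.pullback f).obj L) m) 0) : ℝ) -
        n * Module.finrank k (Coh.HH X (CohB1.tensorPow L m) 0)) =O[atTop]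
      (fun m : ℕ => (m : ℝ) ^ (d - 1)) := by
  haveI : f.IsOver (Spec (CommRingCat.of k)) := ⟨hf⟩
  have hpos : 0 < f.residueDegree (genericPoint Y) := by rw [hn]; exact hn0
  obtain ⟨-, hg⟩ := gdim_push_unit_eq k f hf hgen hpos
  have hG := isCoh_push_unit k f hf
  obtain ⟨K, hK⟩ := h0_rank_bound k H hH d hd _ hG L hL
  rw [hg, hn] at hK
  refine isBigO_of_bounds
    (fun m => Module.finrank k (Coh.HH Y
      (CohB1.tensorPow ((Scheme.Modules.pullback f).obj L) m) 0))
    (fun m => Module.finrank k (Coh.HH X (CohB1.tensorPow L m) 0)) n K d ?_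
  intro m
  rw [finrank_HH_pullback_tensorPow f k L hL m]
  exact hK m

end Groth.Agent.H5.Hyper
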