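import Mathlib
import Groth.Agent.Lib.Helper5.Hyper.GenFinVol
import Groth.Agent.Lib.Helper1.PushO
import Groth.Agent.Lib.Lead.QC.SubExt
import Groth.Prelude.Def_EGA4Misc
import Groth.Prelude.Def_ClSub2

/-!
# Bigness and birational pullback (helper5; S17285)
-/

set_option autoImplicit false
universe u
open CategoryTheory CategoryTheory.Limits AlgebraicGeometry TopologicalSpace Filter

namespace Groth.Agent.H5.Hyper

open Groth.Agent.LD Groth.Agent.LD.QC Groth.Agent.H5.Curve4 Groth.Agent.H5.DegC Groth.Agent.H5.Snap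
open Groth.Agent.H5.IntN Groth.Agent.H5.HP

section mono

variable {X Y : Scheme.{u}} [IsIntegral X] [IsIntegral Y] (f : Y ⟶ X)

/-- `O_X ⟶ f_* O_Y` is a monomorphism for a dominant morphism of integral schemes. -/
theorem mono_unitToPush (hgen : f (genericPoint Y) = genericPoint X) :
    Mono (ClSub.unitToPush f) := by
  have hdom : f.base (genericPoint Y) ⤳ genericPoint X := by
    change f (genericPoint Y) ⤳ genericPoint X
    rw [hgen]
  apply mono_of_injective_app
  intro W
  by_cases hW : genericPoint X ∈ W
  · exact Groth.Agent.H1.PushO.app_injective f hdom W hW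
  · have hbot : W = ⊥ := by
      by_contra hne
      apply hW
      have hne' : (W : Set X).Nonempty := by
        rw [Set.nonempty_iff_ne_empty]
        intro h
        apply hne
        ext x
        simp [← SetLike.mem_coe, h]
      exact ((genericPoint_spec X).mem_open_set_iff W.isOpen).mpr (by simpa using hne')
    subst hbot
    haveI : Subsingleton Γ(X, (⊥ : X.Opens)) := inferInstance
    intro a b _
    exact Subsingleton.elim (α := Γ(X, (⊥ : X.Opens))) a b

end mono

variable (k : Type u) [Field k] {X Y : Scheme.{u}}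
  [X.Over (Spec (CommRingCat.of k))] [Y.Over (Spec (CommRingCat.of k))]
  [IsProper (X ↘ Spec (CommRingCat.of k))] [IsProper (Y ↘ Spec (CommRingCat.of k))]
  [IsIntegral X] [IsIntegral Y]

/-- a birational morphism of integral schemes maps the generic point to the generic point, with
residue degree one. -/
theorem generic_of_isBirational (f : Y ⟶ X) (hbir : RadPt.IsBirational f) :
    f (genericPoint Y) = genericPoint X ∧ f.residueDegree (genericPoint Y) = 1 := by
  have hY : genericPoint Y ∈ genericPoints Y := by rw [genericPoints_eq_singleton]; rfl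
  have h1 : f (genericPoint Y) ∈ genericPoints X := hbir.1.mapsTo hY
  have hgen : f (genericPoint Y) = genericPoint X := by
    rw [genericPoints_eq_singleton] at h1
    exact h1
  refine ⟨hgen, ?_⟩
  have hbij := (hbir.2 (f (genericPoint Y)) h1).2 (genericPoint Y) rfl
  unfold Scheme.Hom.residueDegree
  letI := (f.residueFieldMap (genericPoint Y)).hom.toAlgebra
  have e : (X.residueField (f (genericPoint Y))) ≃ₗ[X.residueField (f (genericPoint Y))]
      (Y.residueField (genericPoint Y)) :=
    LinearEquiv.ofBijective (Algebra.linearMap _ _) hbij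
  rw [← e.finrank_eq, Module.finrank_self]

/-- for a birational morphism `f : Y ⟶ X` of integral proper schemes, `h^0(X, L^m)` and
`h^0(X, f_*O_Y ⊗ L^m)` differ by `O(m^{d-1})`. -/
theorem close_unit_push_of_birational (f : Y ⟶ X)
    (hf : f ≫ (X ↘ Spec (CommRingCat.of k)) = Y ↘ Spec (CommRingCat.of k))
    (hbir : RadPt.IsBirational f) (d : ℕ) (hd : topologicalKrullDim X = d)
    (L : X.Modules) (hL : PicF.IsInvertible L) :
    Close k d (unitMod X) ((Scheme.Modules.pushforward f).obj (unitMod Y)) L := by
  haveI : IsNoetherian X := Curve2.isNoetherian_of_proper k X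
  obtain ⟨hgen, hdeg⟩ := generic_of_isBirational f hbir
  obtain ⟨-, hg⟩ := gdim_push_unit_eq k f hf hgen (by rw [hdeg]; exact Nat.one_pos)
  rw [hdeg] at hg
  have hB := isCoh_push_unit k f hf
  have hA : Coh.IsCoh (unitMod X) := Groth.Agent.LD.PF.isCoh_unitMod X
  haveI := mono_unitToPush f hgen
  have hQc : Coh.IsCoh (cokernel (ClSub.unitToPush f)) := isCoh_cokernel _ hA hB
  have hadd := gdim_add _ (shortExact_coker (ClSub.unitToPush f)) hA hQc
  change gdim ((Scheme.Modules.pushforward f).obj (unitMod Y)) =
    gdim (unitMod X) + gdim (cokernel (ClSub.unitToPush f)) at hadd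
  rw [hg, gdim_unit] at hadd
  have ht : IsTors (cokernel (ClSub.unitToPush f)) := isTors_of_gdim_eq_zero hQc.2 (by omega)
  exact close_of_small_quot k d _ (shortExact_coker (ClSub.unitToPush f)) hA hB hQc
    (dim_support_lt_of_isTors d hd hQc ht) L hL

/-- **S17285**. -/
theorem big_iff_pullback_of_birational (f : Y ⟶ X)
    (hf : f ≫ (X ↘ Spec (CommRingCat.of k)) = Y ↘ Spec (CommRingCat.of k))
    (hbir : RadPt.IsBirational f) (d : ℕ) (hd : topologicalKrullDim X = d)
    (L : X.Modules) (hL : PicF.IsInvertible L) :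
    (∃ c : ℝ, 0 < c ∧ ∀ᶠ n : ℕ in atTop,
        c * (n : ℝ) ^ d < (Module.finrank k (Coh.HH X (CohB1.tensorPow L n) 0) : ℝ)) ↔
      (∃ c : ℝ, 0 < c ∧ ∀ᶠ n : ℕ in atTop,
        c * (n : ℝ) ^ d < (Module.finrank k (Coh.HH Y
          (CohB1.tensorPow ((Scheme.Modules.pullback f).obj L) n) 0) : ℝ)) := by
  haveI : f.IsOver (Spec (CommRingCat.of k)) := ⟨hf⟩
  obtain ⟨K, hK⟩ := close_unit_push_of_birational k f hf hbir d hd L hL
  refine big_iff_of_close
    (fun m => Module.finrank k (Coh.HH X (CohB1.tensorPow L m) 0))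
    (fun m => Module.finrank k (Coh.HH Y
      (CohB1.tensorPow ((Scheme.Modules.pullback f).obj L) m) 0)) K d ?_
  intro m
  have h := hK m
  rw [FBC.finrank_HH_congr k (unitorL' (CohB1.tensorPow L m)) 0,
    ← finrank_HH_pullback_tensorPow f k L hL m] at h
  exact h

end Groth.Agent.H5.Hyper
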