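import Mathlib
import Groth.Agent.Lib.Helper5.Hyper.Chi
import Groth.Agent.Lib.Helper5.IntN.Gro1

/-!
# Inequalities for the hypercohomology spectral sequence (helper5; S17623)

For a complex `K^•` of acyclic modules with cohomology modules `ℋ^q`, if `h^p(ℋ^q) ≤ c` for all
`q ≥ 1` and all `p`, then `|dim H^i(Γ(K^•)) - h^i(ℋ^0)| ≤ i · c`.
-/

set_option autoImplicit false
universe u
open CategoryTheory CategoryTheory.Limits AlgebraicGeometry

namespace Groth.Agent.H5.Hyper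

open Groth.Agent.LD Groth.Agent.H5.IntN

namespace HData

variable {X : Scheme.{u}} {D : HData X} {k : Type u} [Field k] [X.Over (Spec (CommRingCat.of k))]
  {N d : ℕ} (hG : D.Good k N d)

include hG

/-- the dimension of `H^{q+1}(Γ(K^•))` in terms of the cycles and boundaries. -/
lemma e_succ_eq (q : ℕ) :
    ∃ a : ℕ, a ≤ Module.finrank k (Coh.HH X (D.Hh (q + 1)) 0) ∧
      D.e k (q + 1) = a + Module.finrank k (Coh.HH X (D.Z q) 1) := by
  have hCR : Module.finrank k (Coh.HH X (D.Z (q + 1)) 0 ⧸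
      LinearMap.range (CL.HHmap k (D.inc (q + 1)) 0)) = D.e k (q + 1) :=
    finrank_quot_eq_hqS (CL.HHmap k (D.j (q + 1)) 0) (inj_f k (D.ex2 (q + 1)))
      (CL.HHmap k (D.d (q + 1)) 0) (range_j_eq_ker_d (q + 1))
      (LinearMap.range (CL.HHmap k (D.inc (q + 1)) 0))
      (D.P k (q + 1)) (map_P' (q + 1))
  rw [← hCR]
  change ∃ a : ℕ, _ ∧ Module.finrank k (Coh.HH X (D.Z (q + 1)) 0 ⧸
      LinearMap.range (CL.HHmap k (D.ρ q ≫ D.i (q + 1)) 0)) = _
  rw [CL.HHmap_comp]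
  let eb := quotEquivH1 k (D.ex2 q) (hG.acyc q 0)
  haveI := (fin_BZ hG q).2 0
  haveI hfb : Module.Finite k
      (Coh.HH X (D.B (q + 1)) 0 ⧸ LinearMap.range (CL.HHmap k (D.ρ q) 0)) :=
    Module.Finite.equiv eb.symm
  -- the quotient `H^0(Z) / H^0(B)` embeds into `H^0(ℋ)`
  let e : (Coh.HH X (D.Z (q + 1)) 0 ⧸ LinearMap.range (CL.HHmap k (D.i (q + 1)) 0)) ≃ₗ[k]
      LinearMap.range (CL.HHmap k (D.π (q + 1)) 0) :=
    (Submodule.quotEquivOfEq _ _ (ker_g_eq k (D.ex1 (q + 1)) 0).symm).trans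
      (LinearMap.quotKerEquivRange (CL.HHmap k (D.π (q + 1)) 0))
  haveI := hG.fin (q + 1) 0
  haveI hfa : Module.Finite k
      (Coh.HH X (D.Z (q + 1)) 0 ⧸ LinearMap.range (CL.HHmap k (D.i (q + 1)) 0)) :=
    Module.Finite.equiv e.symm
  obtain ⟨-, hL1⟩ := finrank_quot_comp (CL.HHmap k (D.ρ q) 0) (CL.HHmap k (D.i (q + 1)) 0)
    (inj_f k (D.ex1 (q + 1)))
  refine ⟨Module.finrank k (Coh.HH X (D.Z (q + 1)) 0 ⧸
      LinearMap.range (CL.HHmap k (D.i (q + 1)) 0)), ?_, ?_⟩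
  · rw [e.finrank_eq]
    exact Submodule.finrank_le _
  · rw [hL1, eb.finrank_eq]

/-- the dimension of `H^0(Γ(K^•))`. -/
lemma e_zero_le : D.e k 0 ≤ Module.finrank k (Coh.HH X (D.Hh 0) 0) := by
  have hCR : Module.finrank k (Coh.HH X (D.Z 0) 0 ⧸
      LinearMap.range (CL.HHmap k (D.inc 0) 0)) = D.e k 0 :=
    finrank_quot_eq_hqS (CL.HHmap k (D.j 0) 0) (inj_f k (D.ex2 0))
      (CL.HHmap k (D.d 0) 0) (range_j_eq_ker_d 0)
      (LinearMap.range (CL.HHmap k (D.inc 0) 0))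
      (D.P k 0) (map_P' 0)
  rw [← hCR]
  change Module.finrank k (Coh.HH X (D.Z 0) 0 ⧸
      LinearMap.range (CL.HHmap k (D.i 0) 0)) ≤ _
  let e : (Coh.HH X (D.Z 0) 0 ⧸ LinearMap.range (CL.HHmap k (D.i 0) 0)) ≃ₗ[k]
      LinearMap.range (CL.HHmap k (D.π 0) 0) :=
    (Submodule.quotEquivOfEq _ _ (ker_g_eq k (D.ex1 0) 0).symm).trans
      (LinearMap.quotKerEquivRange (CL.HHmap k (D.π 0) 0))
  haveI := hG.fin 0 0
  rw [e.finrank_eq]
  exact Submodule.finrank_le _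

/-- upper bound for the higher cohomology of the cycles. -/
lemma finrank_Z_le (c : ℕ)
    (hc : ∀ q p, 1 ≤ q → Module.finrank k (Coh.HH X (D.Hh q) p) ≤ c) :
    ∀ q p, Module.finrank k (Coh.HH X (D.Z q) (p + 1)) ≤
      Module.finrank k (Coh.HH X (D.Hh 0) (p + q + 1)) + q * c
  | 0, p => by
    haveI := (fin_BZ hG 0).1 p
    haveI := (fin_BZ hG 0).2 p
    haveI := hG.fin 0 (p + 1)
    have h1 := finrank_le_add_of_exact (CL.HHmap k (D.i 0) (p + 1)) (CL.HHmap k (D.π 0) (p + 1))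
      (fun w hw => CL.exact₂ (D.ex1 0) k (p + 1) w hw)
    haveI := CL.subsingleton_HH_of_isZero D.B0 (p + 1)
    rw [Module.finrank_zero_of_subsingleton (M := Coh.HH X (D.B 0) (p + 1))] at h1
    simpa using h1
  | q + 1, p => by
    haveI := (fin_BZ hG (q + 1)).1 p
    haveI := (fin_BZ hG (q + 1)).2 p
    haveI := hG.fin (q + 1) (p + 1)
    have h1 := finrank_le_add_of_exact (CL.HHmap k (D.i (q + 1)) (p + 1))
      (CL.HHmap k (D.π (q + 1)) (p + 1))
      (fun w hw => CL.exact₂ (D.ex1 (q + 1)) k (p + 1) w hw)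
    rw [(shiftEquiv hG q p).finrank_eq] at h1
    have h2 : Module.finrank k (Coh.HH X (D.Z q) (p + 2)) ≤
        Module.finrank k (Coh.HH X (D.Hh 0) (p + 1 + q + 1)) + q * c := finrank_Z_le c hc q (p + 1)
    have h3 := hc (q + 1) (p + 1) (Nat.le_add_left 1 q)
    have hidx : p + 1 + q + 1 = p + (q + 1) + 1 := by omega
    rw [hidx] at h2
    rw [Nat.add_mul, one_mul]
    omega

/-- lower bound. -/
lemma finrank_Z_ge (c : ℕ)
    (hc : ∀ q p, 1 ≤ q → Module.finrank k (Coh.HH X (D.Hh q) p) ≤ c) :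
    ∀ p q, Module.finrank k (Coh.HH X (D.Z q) (p + 1)) ≤
      p * c + Module.finrank k (Coh.HH X (D.Z (q + p)) 1)
  | 0, q => by simp
  | p + 1, q => by
    haveI := (fin_BZ hG (q + 1)).1 p
    haveI := (fin_BZ hG (q + 1)).2 p
    haveI := hG.fin (q + 1) p
    have h1 : Module.finrank k (Coh.HH X (D.B (q + 1)) (p + 1)) ≤
        Module.finrank k (Coh.HH X (D.Hh (q + 1)) p) +
          Module.finrank k (Coh.HH X (D.Z (q + 1)) (p + 1)) :=
      finrank_le_add_of_exact (CL.HHδ (D.ex1 (q + 1)) k p)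
        (CL.HHmap k (D.i (q + 1)) (p + 1))
        (fun w hw => CL.exact₁ (D.ex1 (q + 1)) k p w hw)
    rw [(shiftEquiv hG q p).finrank_eq] at h1
    change Module.finrank k (Coh.HH X (D.Z q) (p + 2)) ≤ _
    have h2 := finrank_Z_ge c hc p (q + 1)
    have h3 := hc (q + 1) p (Nat.le_add_left 1 q)
    have hidx : q + 1 + p = q + (p + 1) := by omega
    rw [hidx] at h2
    rw [Nat.add_mul, one_mul]
    omega

/-- the dimension of `H^0(Γ(K^•))` is `h^0(ℋ^0)`. -/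
lemma e_zero_eq : D.e k 0 = Module.finrank k (Coh.HH X (D.Hh 0) 0) := by
  have hCR : Module.finrank k (Coh.HH X (D.Z 0) 0 ⧸
      LinearMap.range (CL.HHmap k (D.inc 0) 0)) = D.e k 0 :=
    finrank_quot_eq_hqS (CL.HHmap k (D.j 0) 0) (inj_f k (D.ex2 0))
      (CL.HHmap k (D.d 0) 0) (range_j_eq_ker_d 0)
      (LinearMap.range (CL.HHmap k (D.inc 0) 0))
      (D.P k 0) (map_P' 0)
  rw [← hCR]
  change Module.finrank k (Coh.HH X (D.Z 0) 0 ⧸
      LinearMap.range (CL.HHmap k (D.i 0) 0)) = _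
  let e : (Coh.HH X (D.Z 0) 0 ⧸ LinearMap.range (CL.HHmap k (D.i 0) 0)) ≃ₗ[k]
      LinearMap.range (CL.HHmap k (D.π 0) 0) :=
    (Submodule.quotEquivOfEq _ _ (ker_g_eq k (D.ex1 0) 0).symm).trans
      (LinearMap.quotKerEquivRange (CL.HHmap k (D.π 0) 0))
  rw [e.finrank_eq]
  have hsurj : LinearMap.range (CL.HHmap k (D.π 0) 0) = ⊤ := by
    rw [LinearMap.range_eq_top]
    intro w
    haveI := CL.subsingleton_HH_of_isZero D.B0 1
    exact CL.exact₃ (D.ex1 0) k 0 w (Subsingleton.elim _ _)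
  rw [hsurj, finrank_top]

/-- **the two inequalities**: `|dim H^i(Γ(K^•)) - h^i(ℋ^0)| ≤ i · c`. -/
theorem e_close (c : ℕ)
    (hc : ∀ q p, 1 ≤ q → Module.finrank k (Coh.HH X (D.Hh q) p) ≤ c) (i : ℕ) :
    D.e k (i + 1) ≤ Module.finrank k (Coh.HH X (D.Hh 0) (i + 1)) + (i + 1) * c ∧
      Module.finrank k (Coh.HH X (D.Hh 0) (i + 1)) ≤ D.e k (i + 1) + (i + 1) * c := by
  obtain ⟨a, ha, he⟩ := e_succ_eq hG i
  constructor
  · have h1 := finrank_Z_le hG c hc i 0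
    have h2 := hc (i + 1) 0 (Nat.le_add_left 1 i)
    rw [show 0 + i + 1 = i + 1 by omega] at h1
    change Module.finrank k (Coh.HH X (D.Z i) 1) ≤ _ at h1
    rw [Nat.add_mul, one_mul]
    omega
  · -- `h^{i+1}(ℋ^0) ≤ h^{i+1}(Z^0)`
    haveI := (fin_BZ hG 0).2 i
    haveI := hG.fin 0 (i + 1)
    haveI : Module.Finite k (Coh.HH X (D.B 0) (i + 1 + 1)) := (fin_BZ hG 0).1 (i + 1)
    have h1 := finrank_le_add_of_exact (CL.HHmap k (D.π 0) (i + 1)) (CL.HHδ (D.ex1 0) k (i + 1))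
      (fun w hw => CL.exact₃ (D.ex1 0) k (i + 1) w hw)
    haveI := CL.subsingleton_HH_of_isZero D.B0 (i + 1 + 1)
    rw [Module.finrank_zero_of_subsingleton (M := Coh.HH X (D.B 0) (i + 1 + 1))] at h1
    have h2 := finrank_Z_ge hG c hc i 0
    rw [show 0 + i = i by omega] at h2
    rw [Nat.add_mul, one_mul]
    omega

end HData

end Groth.Agent.H5.Hyper
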