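import Mathlib
import Groth.Agent.Lib.Helper5.Hyper.LerayIneq
import Groth.Agent.Lib.Helper5.Hyper.LerayChi

/-!
# `|h^i(Y, G) - h^i(X, f_* G)| ≤ i · c` when `h^p(X, R^q f_* G) ≤ c` for `q ≥ 1` (helper5; S17623)
-/

set_option autoImplicit false
universe u
open CategoryTheory CategoryTheory.Limits AlgebraicGeometry TopologicalSpace

namespace Groth.Agent.H5.Hyper

open Groth.Agent.LD

section

variable (k : Type u) [Field k] {X Y : Scheme.{u}}
  [X.Over (Spec (CommRingCat.of k))] [Y.Over (Spec (CommRingCat.of k))]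
  [IsProper (X ↘ Spec (CommRingCat.of k))] [IsProper (Y ↘ Spec (CommRingCat.of k))]

/-- the complex of global sections of an injective resolution computes cohomology. -/
theorem e_res_eq {G : Y.Modules} (hG : Coh.IsCoh G) (I : InjectiveResolution G) (i : ℕ) :
    (ofComplex I.cocomplex).e k i = Module.finrank k (Coh.HH Y G i) := by
  obtain ⟨d, hd⟩ := exists_cd k Y
  have hgood := good_res k hG I d hd
  have h0 : ∀ p, Module.finrank k (Coh.HH Y ((ofComplex I.cocomplex).Hh 0) p) =
      Module.finrank k (Coh.HH Y G p) := fun p => (CL.HHisoEquiv k (resH0Iso I) p).finrank_eq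
  cases i with
  | zero => rw [HData.e_zero_eq hgood, h0]
  | succ i =>
    have hc : ∀ q p, 1 ≤ q →
        Module.finrank k (Coh.HH Y ((ofComplex I.cocomplex).Hh q) p) ≤ 0 := by
      intro q p hq
      obtain ⟨q, rfl⟩ : ∃ r, q = r + 1 := ⟨q - 1, by omega⟩
      haveI : Subsingleton (Coh.HH Y ((ofComplex I.cocomplex).Hh (q + 1)) p) :=
        CL.subsingleton_HH_of_isZero (resH_succ_isZero I q) p
      rw [Module.finrank_zero_of_subsingleton]
    obtain ⟨h1, h2⟩ := HData.e_close hgood 0 hc i
    rw [h0] at h1 h2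
    omega

variable (f : Y ⟶ X) [f.IsOver (Spec (CommRingCat.of k))] [HasInjectiveResolutions Y.Modules]

/-- **the Leray inequalities.** -/
theorem leray_close {G : Y.Modules} (hG : Coh.IsCoh G) (c : ℕ)
    (hc : ∀ q p, 1 ≤ q → Module.finrank k (Coh.HH X ((Coh.Rpush f q).obj G) p) ≤ c) (i : ℕ) :
    Module.finrank k (Coh.HH Y G i) ≤
        Module.finrank k (Coh.HH X ((Scheme.Modules.pushforward f).obj G) i) + i * c ∧
      Module.finrank k (Coh.HH X ((Scheme.Modules.pushforward f).obj G) i) ≤
        Module.finrank k (Coh.HH Y G i) + i * c := by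
  let I : InjectiveResolution G := injectiveResolution G
  obtain ⟨d, hd⟩ := exists_cd k X
  obtain ⟨N, hgood⟩ := good_push k f hG I d hd
  have he : (ofComplex (((Scheme.Modules.pushforward f).mapHomologicalComplex
      (ComplexShape.up ℕ)).obj I.cocomplex)).e k i = Module.finrank k (Coh.HH Y G i) := by
    rw [e_push_eq f k I.cocomplex i, e_res_eq k hG I i]
  have hH : ∀ q p, Module.finrank k (Coh.HH X ((ofComplex (((Scheme.Modules.pushforward
      f).mapHomologicalComplex (ComplexShape.up ℕ)).obj I.cocomplex)).Hh q) p) =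
      Module.finrank k (Coh.HH X ((Coh.Rpush f q).obj G) p) := fun q p =>
    (CL.HHisoEquiv k (pushHIso f I q) p).finrank_eq
  have e0 : (Coh.Rpush f 0).obj G ≅ (Scheme.Modules.pushforward f).obj G :=
    (Functor.rightDerivedZeroIsoSelf (Scheme.Modules.pushforward f)).app G
  have h0 : ∀ p, Module.finrank k (Coh.HH X ((ofComplex (((Scheme.Modules.pushforward
      f).mapHomologicalComplex (ComplexShape.up ℕ)).obj I.cocomplex)).Hh 0) p) =
      Module.finrank k (Coh.HH X ((Scheme.Modules.pushforward f).obj G) p) := fun p => by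
    rw [hH 0 p]
    exact (CL.HHisoEquiv k e0 p).finrank_eq
  have hc' : ∀ q p, 1 ≤ q → Module.finrank k (Coh.HH X ((ofComplex (((Scheme.Modules.pushforward
      f).mapHomologicalComplex (ComplexShape.up ℕ)).obj I.cocomplex)).Hh q) p) ≤ c := by
    intro q p hq
    rw [hH q p]
    exact hc q p hq
  cases i with
  | zero =>
    have h1 := HData.e_zero_eq hgood
    rw [he, h0] at h1
    rw [h1]
    simp
  | succ i =>
    obtain ⟨h1, h2⟩ := HData.e_close hgood c hc' i
    rw [he, h0] at h1 h2
    exact ⟨h1, h2⟩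

end

end Groth.Agent.H5.Hyper
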