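import Mathlib
import Groth.Agent.Lib.Helper5.Hyper.PushInt
import Groth.Agent.Lib.Helper5.Hyper.LerayChi
import Groth.Agent.Lib.Helper5.IntN.PosMain
import Groth.Agent.Lib.Lead.XS.RelDual
import Groth.Agent.Lib.Lead.RP.Compare2
import Groth.Agent.Lib.Lead.QC.SuppSES
import Groth.Agent.Lib.Lead.DF.ZProp
import Groth.Agent.Lib.Helper5.AG.LocalDim
import Groth.Agent.Lib.Helper5.IntN.Basic

/-!
# `R¹π_* O = 0 ⟺ χ(O_Y) = χ(O_X)` for a modification with one-dimensional fibres
(helper5; S14058, S13129)
-/

set_option autoImplicit false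
universe u
open CategoryTheory CategoryTheory.Limits AlgebraicGeometry TopologicalSpace

namespace Groth.Agent.H5.Hyper

open Groth.Agent.LD Groth.Agent.LD.QC Groth.Agent.H5.Curve4 Groth.Agent.H5.Snap
open Groth.Agent.H5.IntN Groth.Agent.H5.DegC

section supp

variable {Z W : Scheme.{u}} (g : Z ⟶ W) [HasInjectiveResolutions Z.Modules]

/-- higher direct images are supported off the locus over which the morphism is affine. -/
theorem support_Rpush_subset (V : W.Opens) [IsAffineHom (g ∣_ V)]
    (G : Z.Modules) [G.IsQuasicoherent] (q : ℕ) (hq : 0 < q) :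
    CohB1.support ((Coh.Rpush g q).obj G) ⊆ (V : Set W)ᶜ := by
  haveI := QCQS.hasInjRes (g ⁻¹ᵁ V).toScheme
  obtain ⟨e⟩ := QCQS.nonempty_restrict_Rpush_iso g V G q
  haveI : (G.restrict (g ⁻¹ᵁ V).ι).IsQuasicoherent := QC.qc_restrict _ G
  have hz : IsZero (((Scheme.Modules.pushforward (g ∣_ V)).rightDerived q).obj
      (G.restrict (g ⁻¹ᵁ V).ι)) := QCQS.isZero_Rpush_of_isAffineHom (g ∣_ V) _ q hq
  have hz' : IsZero ((Scheme.Modules.restrictFunctor V.ι).obj ((Coh.Rpush g q).obj G)) :=
    hz.of_iso e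
  have hd := DF.support_disjoint_of_isZero_restrict V.ι hz'
  intro x hx hxV
  exact Set.disjoint_left.mp hd ⟨⟨x, hxV⟩, rfl⟩ hx

end supp

section fib

lemma dim_le_zero_of_subsingleton (T : Type*) [TopologicalSpace T] [Subsingleton T] :
    topologicalKrullDim T ≤ 0 :=
  topologicalKrullDim_zero_of_discreteTopology T

variable {X Y : Scheme.{u}} (π : Y ⟶ X)

/-- the fibres of a morphism that is an isomorphism over `U` and whose exceptional locus has
dimension at most one have dimension at most one. -/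
theorem fiber_dim_le_one (U : X.Opens) [IsIso (π ∣_ U)]
    (hdim : topologicalKrullDim (((π ⁻¹ᵁ U : Y.Opens) : Set Y)ᶜ : Set Y) ≤ 1) (x : X) :
    topologicalKrullDim ↥(π.fiber x) ≤ 1 := by
  rw [IsHomeomorph.topologicalKrullDim_eq _ (π.fiberHomeo x).isHomeomorph]
  by_cases hx : x ∈ U
  · haveI : Subsingleton (π ⁻¹' ({x} : Set X)) := by
      refine ⟨fun a b => ?_⟩
      have ha : a.1 ∈ π ⁻¹ᵁ U := by
        change π a.1 ∈ U
        rw [a.2]; exact hx
      have hb : b.1 ∈ π ⁻¹ᵁ U := by
        change π b.1 ∈ U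
        rw [b.2]; exact hx
      have hinj : Function.Injective (π ∣_ U) :=
        ((π ∣_ U).homeomorph).injective
      have h1 : (π ∣_ U) (⟨a.1, ha⟩ : (π ⁻¹ᵁ U).toScheme) =
          (π ∣_ U) (⟨b.1, hb⟩ : (π ⁻¹ᵁ U).toScheme) := by
        apply Subtype.ext
        rw [morphismRestrict_base_coe, morphismRestrict_base_coe]
        exact a.2.trans b.2.symm
      have h2 := hinj h1
      exact Subtype.ext (congrArg (fun z : (π ⁻¹ᵁ U).toScheme => (z.1 : Y)) h2)
    exact (dim_le_zero_of_subsingleton _).trans (by norm_num)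
  · refine le_trans (dim_mono ?_) hdim
    intro a ha haU
    apply hx
    have : π a = x := ha
    rw [← this]
    exact haU

end fib


section pos

variable (k : Type u) [Field k] {X : Scheme.{u}}
  [X.Over (Spec (CommRingCat.of k))] [IsProper (X ↘ Spec (CommRingCat.of k))]

/-- a nonzero coherent module with zero-dimensional support has positive Euler characteristic. -/
theorem isZero_of_euler_eq_zero (F : X.Modules) (hF : Coh.IsCoh F)
    (hdim : topologicalKrullDim (CohB1.support F) ≤ 0) (h0 : Curv2.euler k X F = 0) :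
    IsZero F := by
  haveI : IsNoetherian X := Curve2.isNoetherian_of_proper k X
  obtain ⟨D, hD⟩ := Groth.Agent.H9.ORB3.exists_nat_dim_le (X ↘ Spec (CommRingCat.of k))
  apply isZero_of_support_eq_empty
  by_contra hne
  obtain ⟨x, hx⟩ := Set.nonempty_iff_ne_empty.mpr hne
  haveI : Nonempty (CohB1.support F) := ⟨⟨x, hx⟩⟩
  have hdim0 : topologicalKrullDim (CohB1.support F) = ((0 : ℕ) : WithBot ℕ∞) :=
    le_antisymm (by exact_mod_cast hdim)
      (by exact_mod_cast Groth.Agent.H5.AG.topologicalKrullDim_nonneg _)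
  have hpos := intNum_pos_of_isAmple k X D hD (r := 0) (fun i => i.elim0) (fun i => i.elim0)
    (fun i => i.elim0) (fun i => i.elim0) F hF hdim0
  rw [intNum_zero k D _ F, eulerCharLE_eq_euler k D hD F hF, h0] at hpos
  exact lt_irrefl _ hpos

end pos

section main

variable (k : Type u) [Field k] {X Y : Scheme.{u}}
  [X.Over (Spec (CommRingCat.of k))] [Y.Over (Spec (CommRingCat.of k))]
  [IsProper (X ↘ Spec (CommRingCat.of k))] [IsProper (Y ↘ Spec (CommRingCat.of k))]
  (π : Y ⟶ X) [π.IsOver (Spec (CommRingCat.of k))]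

/-- **`R¹π_* O_Y = 0 ⟺ χ(O_Y) = χ(O_X)`** for a modification `π : Y ⟶ X` of proper schemes which
is an isomorphism outside a zero-dimensional closed set, with exceptional locus of dimension
at most one and `π_* O_Y = O_X`. -/
theorem isZero_R1_iff_euler_eq (U : X.Opens) [IsIso (π ∣_ U)]
    (hU : topologicalKrullDim ((U : Set X)ᶜ : Set X) ≤ 0)
    (hE : topologicalKrullDim (((π ⁻¹ᵁ U : Y.Opens) : Set Y)ᶜ : Set Y) ≤ 1)
    (hO : Nonempty (Coh.structureModule X ≅
      (Scheme.Modules.pushforward π).obj (Coh.structureModule Y))) :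
    IsZero ((Coh.RpushAb π 1).obj (Coh.toAb (Coh.structureModule Y))) ↔
      Curv2.euler k Y (Coh.structureModule Y) = Curv2.euler k X (Coh.structureModule X) := by
  haveI := QCQS.hasInjRes Y
  haveI : IsProper π := isProper_of_over k π
  haveI := Curve.isLocallyNoetherian k X
  haveI := Curve.isLocallyNoetherian k Y
  have hOY : Coh.IsCoh (Coh.structureModule Y) := DF.isCoh_structureModule Y
  haveI := hOY.1
  -- the Leray formula
  have hleray := euler_leray k π hOY
  have hvan : ∀ q : ℕ, 1 < q → IsZero ((Coh.Rpush π q).obj (Coh.structureModule Y)) :=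
    fun q hq => Groth.Agent.LD.XS.RD.isZero_Rpush_of_fiber_dim π 1
      (fiber_dim_le_one π U hE) _ hOY q hq
  have hsupp : (Function.support fun i : ℕ => (-1 : ℤ) ^ i *
      Curv2.euler k X ((Coh.Rpush π i).obj (Coh.structureModule Y))) ⊆
      ↑(Finset.range 2) := by
    intro i hi
    rw [Finset.coe_range, Set.mem_Iio]
    by_contra hge
    push Not at hge
    apply hi
    change (-1 : ℤ) ^ i * _ = 0
    rw [Curve.euler_of_isZero k X (hvan i (by omega)), mul_zero]
  rw [finsum_eq_sum_of_support_subset _ hsupp, Finset.sum_range_succ, Finset.sum_range_one]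
    at hleray
  have h0 : Curv2.euler k X ((Coh.Rpush π 0).obj (Coh.structureModule Y)) =
      Curv2.euler k X (Coh.structureModule X) :=
    Curve.euler_iso k X ((Functor.rightDerivedZeroIsoSelf (Scheme.Modules.pushforward π)).app _ ≪≫
      hO.some.symm)
  rw [h0, pow_zero, one_mul, pow_one, neg_one_mul] at hleray
  -- the first direct image
  have hM : Coh.IsCoh ((Coh.Rpush π 1).obj (Coh.structureModule Y)) :=
    RS.isCoh_Rpush π Groth.Agent.H6.HC.finCoh _ hOY 1
  have hMsupp : topologicalKrullDim (CohB1.support ((Coh.Rpush π 1).obj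
      (Coh.structureModule Y))) ≤ 0 :=
    (dim_mono (support_Rpush_subset π U _ 1 one_pos)).trans hU
  obtain ⟨e⟩ := RP.nonempty_toAb_Rpush_iso π (Coh.structureModule Y) 1
  constructor
  · intro hz
    have h1 : IsZero ((Coh.Rpush π 1).obj (Coh.structureModule Y)) :=
      RP.isZero_of_isZero_τ _ (hz.of_iso e)
    rw [hleray, Curve.euler_of_isZero k X h1, neg_zero, add_zero]
  · intro heq
    have h1 : Curv2.euler k X ((Coh.Rpush π 1).obj (Coh.structureModule Y)) = 0 := by
      rw [heq] at hleray
      linarith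
    have h2 := isZero_of_euler_eq_zero k _ hM hMsupp h1
    exact ((RP.τ X).map_isZero h2).of_iso e.symm

end main

end Groth.Agent.H5.Hyper
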