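import Mathlib
import Groth.Agent.Lib.Helper5.Hyper.FibB
import Groth.Agent.Lib.Helper5.Hyper.LerayH
import Groth.Agent.Lib.Helper5.Hyper.ResChi
import Groth.Agent.Lib.Lead.QC.IdealPull
import Groth.Agent.Lib.Lead.QC.ProjFormulaLF
import Groth.Agent.Lib.Lead.XS.RelDual

/-!
# Fibrations of a surface over the projective line: `H¹` vanishing from surjectivity of the
restriction to a fibre (helper5; S16565)
-/

set_option autoImplicit false
universe u
open CategoryTheory CategoryTheory.Limits AlgebraicGeometry TopologicalSpace Opposite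

namespace Groth.Agent.H5.Hyper

open Groth.Agent.LD Groth.Agent.LD.QC Groth.Agent.H5.Curve2 Groth.Agent.H5.Curve4
  Groth.Agent.H5.Curve6 Groth.Agent.H5.DegC Groth.Agent.H5.Gro Groth.Agent.H5.Snap

variable (k : Type u) [Field k] [IsAlgClosed k]
  (X : Scheme.{u}) [X.Over (Spec (CommRingCat.of k))] [IsIntegral X]
  [IsProper (X ↘ Spec (CommRingCat.of k))]

set_option maxHeartbeats 1600000 in
theorem h1_vanish_fibration (hdim : topologicalKrullDim X = 2) [HasInjectiveResolutions X.Modules]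
    (π : X ⟶ P1 k) [π.IsOver (Spec (CommRingCat.of k))] (hπs : Function.Surjective π)
    (L : X.Modules) (hL : PicF.IsInvertible L) (hR1 : IsZero ((Coh.Rpush π 1).obj L))
    (q : P1 k) (hq : IsClosed ({q} : Set (P1 k)))
    (hres : Module.finrank k (Coh.HH X L 0) =
      Module.finrank k (Coh.HH X (CohB1.tensorMod L (ClSub.idealMod
        ((Scheme.IdealSheafData.vanishingIdeal ⟨{q}, hq⟩).comap π))) 0) +
      Module.finrank k (Coh.HH X (CohB1.tensorMod (ClSub.quotMod
        ((Scheme.IdealSheafData.vanishingIdeal ⟨{q}, hq⟩).comap π)) L) 0)) :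
    Subsingleton (Coh.HH X L 1) ∧
      Subsingleton (Coh.HH X (CohB1.tensorMod L (ClSub.idealMod
        ((Scheme.IdealSheafData.vanishingIdeal ⟨{q}, hq⟩).comap π))) 1) ∧
      Subsingleton (Coh.HH (P1 k) (CohB1.tensorMod ((Coh.push π).obj L) (O k (-1))) 1) := by
  classical
  haveI : IsProper π := isProper_of_over k π
  haveI := Curve.isLocallyNoetherian k X
  haveI := Curve.isLocallyNoetherian k (P1 k)
  haveI : IsNoetherian (P1 k) := Curve2.isNoetherian_of_proper k (P1 k)
  haveI : CompactSpace X :=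
    QuasiCompact.compactSpace_of_compactSpace (X ↘ Spec (CommRingCat.of k))
  haveI := nontrivial_P1 k
  haveI : IsDominant π := ⟨hπs.denseRange⟩
  obtain ⟨Iq, hIq⟩ : ∃ I, I = Scheme.IdealSheafData.vanishingIdeal (⟨{q}, hq⟩ : Closeds (P1 k)) :=
    ⟨_, rfl⟩
  rw [← hIq] at hres ⊢
  obtain ⟨hD, ⟨e₁⟩⟩ := idealMod_point k q hq
  rw [← hIq] at hD e₁
  -- the inverse image of the point is an effective Cartier divisor
  have hgen : π (genericPoint X) ∉ Iq.support := by
    intro h
    have h1 : π (genericPoint X) ∈ (Iq.support : Set (P1 k)) := h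
    rw [hIq, Scheme.IdealSheafData.coe_support_vanishingIdeal] at h1
    have h2 : π (genericPoint X) = q := h1
    have hall : ∀ x : X, π x = q := by
      intro x
      have hcl : IsClosed (π ⁻¹' ({q} : Set (P1 k))) := hq.preimage π.continuous
      exact (genericPoint_specializes x).mem_closed hcl h2
    obtain ⟨y, hy⟩ := exists_ne q
    obtain ⟨x, rfl⟩ := hπs y
    exact hy (hall x)
  have hJ : BlowUp.IsEffCartierIdeal (Iq.comap π) := isEffCartierIdeal_comap_of_generic π Iq hD hgen
  obtain ⟨e₂⟩ := nonempty_pullback_idealMod_iso π Iq hD hJ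
  obtain ⟨J, hJdef⟩ : ∃ J, J = Iq.comap π := ⟨_, rfl⟩
  rw [← hJdef] at hres hJ e₂ ⊢
  have hE : FlatMod.IsFinLocFree (O k (-1)) := Curve.isFinLocFree_of_rank (rank_O k (-1))
  have eN : (Scheme.Modules.pullback π).obj (O k (-1)) ≅ ClSub.idealMod J :=
    (Scheme.Modules.pullback π).mapIso e₁ ≪≫ e₂
  have eM : CohB1.tensorMod ((Scheme.Modules.pullback π).obj (O k (-1))) L ≅
      CohB1.tensorMod L (ClSub.idealMod J) :=
    tensorCommAll _ L ≪≫ tensorIso' (Iso.refl L) eN
  -- coherence
  have hLc : Coh.IsCoh L := Snap.isCoh_of_isInvertible hL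
  have hJinv : PicF.IsInvertible (ClSub.idealMod J) := (isInvertible_idealMod_iff J).mpr hJ
  have hIc : Coh.IsCoh (ClSub.idealMod J) := Snap.isCoh_of_isInvertible hJinv
  have hMc : Coh.IsCoh (CohB1.tensorMod L (ClSub.idealMod J)) := isCoh_tensorMod' hLc hIc
  have hOc : Coh.IsCoh (unitMod X) := DF.isCoh_structureModule X
  have hQc : Coh.IsCoh (ClSub.quotMod J) := isCoh_quotMod J
  -- the projection formula
  have hp : ∀ i, Nonempty (CohB1.tensorMod (O k (-1)) ((Coh.Rpush π i).obj L) ≅
      (Coh.Rpush π i).obj (CohB1.tensorMod L (ClSub.idealMod J))) := fun i => by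
    obtain ⟨p⟩ := nonempty_tensor_Rpush_iso π L (O k (-1)) hE i
    exact ⟨p ≪≫ (Coh.Rpush π i).mapIso eM⟩
  obtain ⟨p1⟩ := hp 1
  have hR1M : IsZero ((Coh.Rpush π 1).obj (CohB1.tensorMod L (ClSub.idealMod J))) :=
    ((LT (O k (-1))).map_isZero hR1).of_iso p1.symm
  -- the fibres have dimension at most one
  have hfib : ∀ y : P1 k, topologicalKrullDim ↥(π.fiber y) ≤ ((1 : ℕ) : WithBot ℕ∞) :=
    fun y => fiber_dim_le_of_surjective 1 hdim π (π.isClosedMap) hπs y
  have hc : ∀ G : X.Modules, Coh.IsCoh G → IsZero ((Coh.Rpush π 1).obj G) → ∀ q p : ℕ, 1 ≤ q →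
      Module.finrank k (Coh.HH (P1 k) ((Coh.Rpush π q).obj G) p) ≤ 0 := by
    intro G hG hG1 q p hq
    have hz : IsZero ((Coh.Rpush π q).obj G) := by
      rcases Nat.lt_or_ge 1 q with h | h
      · exact Groth.Agent.LD.XS.RD.isZero_Rpush_of_fiber_dim π 1 hfib G hG q h
      · have : q = 1 := by omega
        subst this
        exact hG1
    haveI := CL.subsingleton_HH_of_isZero hz p
    rw [Module.finrank_zero_of_subsingleton]
  obtain ⟨a1, a2⟩ := leray_close k π hLc 0 (hc L hLc hR1) 1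
  obtain ⟨b1, b2⟩ := leray_close k π hMc 0 (hc _ hMc hR1M) 1
  -- the direct image of `L ⊗ I`
  have e0 : ∀ G : X.Modules, (Coh.Rpush π 0).obj G ≅ (Scheme.Modules.pushforward π).obj G :=
    fun G => (Functor.rightDerivedZeroIsoSelf (Scheme.Modules.pushforward π)).app G
  obtain ⟨p0⟩ := hp 0
  have eV : (Scheme.Modules.pushforward π).obj (CohB1.tensorMod L (ClSub.idealMod J)) ≅
      CohB1.tensorMod ((Scheme.Modules.pushforward π).obj L) (O k (-1)) :=
    (e0 _).symm ≪≫ p0.symm ≪≫ tensorIso' (Iso.refl _) (e0 L) ≪≫ tensorCommAll _ _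
  have hV1 := Curve2.finrank_HH_iso k (P1 k) eV 1
  -- the direct image of `L` is a vector bundle
  have hVc : Coh.IsCoh ((Scheme.Modules.pushforward π).obj L) :=
    isCoh_of_iso (e0 L) (RS.isCoh_Rpush π Groth.Agent.H6.HC.finCoh L hLc 0)
  have hVlf : FlatMod.IsFinLocFree ((Scheme.Modules.pushforward π).obj L) :=
    isFinLocFree_push_of_dominant (dim_P1 k) (regular_stalks k (P1 k)) π L
      (Curve.isFinLocFree_of_rank ((isInvertible_iff L).mp hL)) hVc
  -- the long exact sequence
  have hS := shortExact_idealMod J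
  have hS' := shortExact_map_tensorRightMod hS L hL
  have hles := finrank_H1_le_of_H0_add k hS' (isCoh_tensorMod' hIc hLc) (isCoh_tensorMod' hOc hLc)
    (isCoh_tensorMod' hQc hLc)
  change Module.finrank k (Coh.HH X (CohB1.tensorMod (unitMod X) L) 0) =
      Module.finrank k (Coh.HH X (CohB1.tensorMod (ClSub.idealMod J) L) 0) +
        Module.finrank k (Coh.HH X (CohB1.tensorMod (ClSub.quotMod J) L) 0) →
    Module.finrank k (Coh.HH X (CohB1.tensorMod (ClSub.idealMod J) L) 1) ≤
      Module.finrank k (Coh.HH X (CohB1.tensorMod (unitMod X) L) 1) at hles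
  rw [Curve2.finrank_HH_iso k X (unitorL' L) 0, Curve2.finrank_HH_iso k X (unitorL' L) 1,
    Curve2.finrank_HH_iso k X (tensorCommAll (ClSub.idealMod J) L) 0,
    Curve2.finrank_HH_iso k X (tensorCommAll (ClSub.idealMod J) L) 1] at hles
  have hle := hles hres
  -- conclusion on the projective line
  have hfinal := h1_eq_zero_of_le k ((Scheme.Modules.pushforward π).obj L) hVlf (by omega)
  obtain ⟨z1, z2⟩ := hfinal
  haveI := Groth.Agent.S0002.result k X L hLc 1
  haveI := Groth.Agent.S0002.result k X _ hMc 1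
  haveI := Groth.Agent.S0002.result k (P1 k) _
    (isCoh_tensorMod' hVc (Snap.isCoh_of_isInvertible (isInv_O k (-1)))) 1
  have r1 : Module.finrank k (Coh.HH X L 1) = 0 := by omega
  have r2 : Module.finrank k (Coh.HH X (CohB1.tensorMod L (ClSub.idealMod J)) 1) = 0 := by omega
  exact ⟨Module.finrank_zero_iff.mp r1, Module.finrank_zero_iff.mp r2,
    Module.finrank_zero_iff.mp z2⟩

end Groth.Agent.H5.Hyper
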