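import Mathlib
import Groth.Agent.Lib.Helper5.Hyper.LerayH
import Groth.Agent.Lib.Helper5.Hyper.GenFinVol
import Groth.Agent.Lib.Helper5.IntN.RankB

/-!
# `ĥ^i(Y, f^*L) = deg(f) · ĥ^i(X, L)` for a dominant generically finite `f` (helper5; S17623)
-/

set_option autoImplicit false
universe u
open CategoryTheory CategoryTheory.Limits AlgebraicGeometry TopologicalSpace Filter

namespace Groth.Agent.H5.Hyper

open Groth.Agent.LD Groth.Agent.LD.QC Groth.Agent.H5.Curve4 Groth.Agent.H5.DegC Groth.Agent.H5.Snap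
open Groth.Agent.H5.IntN

/-- equality of normalised upper limits from a bound of the difference. -/
lemma limsup_eq_of_nat_bounds (n K : ℕ) (a b : ℕ → ℕ)
    (h1 : ∀ m, a m ≤ b m + K * bnd n m) (h2 : ∀ m, b m ≤ a m + K * bnd n m) :
    limsup (fun m : ℕ => ((a m : ℕ) : ℝ) * (n.factorial : ℝ) / (m : ℝ) ^ n) atTop =
      limsup (fun m : ℕ => ((b m : ℕ) : ℝ) * (n.factorial : ℝ) / (m : ℝ) ^ n) atTop := by
  refine limsup_eq_of_le_add
    (w := fun m : ℕ => (((K * bnd n m : ℕ) : ℝ)) * (n.factorial : ℝ) / (m : ℝ) ^ n)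
    ?_ ?_ ?_ ?_ (tendsto_bnd_div K n)
  · intro m
    positivity
  · intro m
    positivity
  · intro m
    rw [← add_div, ← add_mul]
    refine div_le_div_of_nonneg_right ?_ (by positivity)
    refine mul_le_mul_of_nonneg_right ?_ (by positivity)
    exact_mod_cast h1 m
  · intro m
    rw [← add_div, ← add_mul]
    refine div_le_div_of_nonneg_right ?_ (by positivity)
    refine mul_le_mul_of_nonneg_right ?_ (by positivity)
    exact_mod_cast h2 m

variable (k : Type u) [Field k] {X Y : Scheme.{u}}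
  [X.Over (Spec (CommRingCat.of k))] [Y.Over (Spec (CommRingCat.of k))]
  [IsProper (X ↘ Spec (CommRingCat.of k))] [IsProper (Y ↘ Spec (CommRingCat.of k))]
  [IsIntegral X] [IsIntegral Y]

/-- `R^q f_* (f^* E) ≅ R^q f_* O_Y ⊗ E` for a finite locally free `E`. -/
theorem nonempty_Rpush_pullback_iso (f : Y ⟶ X) [HasInjectiveResolutions Y.Modules]
    (E : X.Modules) (hE : FlatMod.IsFinLocFree E) (q : ℕ) :
    Nonempty ((Coh.Rpush f q).obj ((Scheme.Modules.pullback f).obj E) ≅
      CohB1.tensorMod ((Coh.Rpush f q).obj (unitMod Y)) E) := by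
  obtain ⟨e1⟩ := nonempty_tensor_Rpush_iso f (unitMod Y) E hE q
  have e2 : (Coh.Rpush f q).obj
        (CohB1.tensorMod ((Scheme.Modules.pullback f).obj E) (unitMod Y)) ≅
      (Coh.Rpush f q).obj ((Scheme.Modules.pullback f).obj E) :=
    (Coh.Rpush f q).mapIso (SecTwist.unitorR _)
  exact ⟨e2.symm ≪≫ e1.symm ≪≫ tensorCommAll _ _⟩

/-- uniform bound for the cohomology of the twisted higher direct images. -/
theorem exists_Rpush_bound (H : X.Modules) (hH : CohB1.IsAmple H) (n : ℕ)
    (hn : topologicalKrullDim X = n) (f : Y ⟶ X)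
    (hf : f ≫ (X ↘ Spec (CommRingCat.of k)) = Y ↘ Spec (CommRingCat.of k))
    (hgen : f (genericPoint Y) = genericPoint X)
    (hpos : 0 < f.residueDegree (genericPoint Y))
    (L : X.Modules) (hL : PicF.IsInvertible L) [HasInjectiveResolutions Y.Modules] :
    ∃ C : ℕ, ∀ (m q p : ℕ), 1 ≤ q →
      Module.finrank k (Coh.HH X (CohB1.tensorMod ((Coh.Rpush f q).obj (unitMod Y))
        (CohB1.tensorPow L m)) p) ≤ C * bnd n m := by
  haveI : f.IsOver (Spec (CommRingCat.of k)) := ⟨hf⟩
  haveI : IsProper f := isProper_of_over k f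
  haveI := Curve.isLocallyNoetherian k X
  haveI := Curve.compactSpace k X
  have hdim := dim_eq_of_residueDegree_pos k (X ↘ Spec (CommRingCat.of k))
    (Y ↘ Spec (CommRingCat.of k)) f hf hgen hpos
  obtain ⟨V, hV, hηV, hfin⟩ := exists_affine_finite k (Y ↘ Spec (CommRingCat.of k))
    (X ↘ Spec (CommRingCat.of k)) f hgen hf hdim
  haveI := hfin
  haveI : IsAffineHom (f ∣_ V) := inferInstance
  have hOc : Coh.IsCoh (unitMod Y) := Groth.Agent.LD.PF.isCoh_unitMod Y
  have hcoh : ∀ q, Coh.IsCoh ((Coh.Rpush f q).obj (unitMod Y)) := fun q =>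
    RS.isCoh_Rpush f Groth.Agent.H6.HC.finCoh _ hOc q
  have hLs : ∀ P ∈ [L], PicF.IsInvertible P := by
    intro P hP
    rw [List.mem_singleton] at hP
    rw [hP]; exact hL
  have hex : ∀ q p : ℕ, ∃ C : ℕ, ∀ m : ℕ, 1 ≤ q →
      Module.finrank k (Coh.HH X (CohB1.tensorMod ((Coh.Rpush f q).obj (unitMod Y))
        (CohB1.tensorPow L m)) p) ≤ C * bnd n m := by
    intro q p
    by_cases hq : 1 ≤ q
    · have ht : IsTors ((Coh.Rpush f q).obj (unitMod Y)) :=
        isTors_Rpush f V hηV (unitMod Y) q hq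
      obtain ⟨C, hC⟩ := word_growth k n X H hH _ (hcoh q)
        (dim_support_lt_of_isTors n hn (hcoh q) ht) [L] hLs p
      exact ⟨C, fun m _ => hC m _ (isWord_tensorPow_singleton hL m)⟩
    · exact ⟨0, fun m h => absurd h hq⟩
  choose Cf hCf using hex
  obtain ⟨N, hN⟩ := SC.exists_isZero_RpushAb f
  obtain ⟨d₀, hd₀⟩ := exists_cd k X
  refine ⟨∑ q ∈ Finset.range (N + 1), ∑ p ∈ Finset.range (d₀ + 1), Cf q p, ?_⟩
  intro m q p hq
  by_cases hqN : q ≤ N
  · by_cases hp : p ≤ d₀
    · refine (hCf q p m hq).trans (Nat.mul_le_mul_right _ ?_)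
      have h1 : Cf q p ≤ ∑ p' ∈ Finset.range (d₀ + 1), Cf q p' :=
        Finset.single_le_sum (f := fun p' => Cf q p') (fun _ _ => Nat.zero_le _)
          (Finset.mem_range.mpr (by omega))
      have h2 : (∑ p' ∈ Finset.range (d₀ + 1), Cf q p') ≤
          ∑ q' ∈ Finset.range (N + 1), ∑ p' ∈ Finset.range (d₀ + 1), Cf q' p' :=
        Finset.single_le_sum (f := fun q' => ∑ p' ∈ Finset.range (d₀ + 1), Cf q' p')
          (fun _ _ => Nat.zero_le _) (Finset.mem_range.mpr (by omega))
      exact h1.trans h2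
    · haveI := hd₀ (CohB1.tensorMod ((Coh.Rpush f q).obj (unitMod Y)) (CohB1.tensorPow L m)) p
        (by omega)
      rw [Module.finrank_zero_of_subsingleton]
      exact Nat.zero_le _
  · have h0 := hN (unitMod Y) hOc.1 q (by omega)
    obtain ⟨e⟩ := RP.nonempty_toAb_Rpush_iso f (unitMod Y) q
    have h1 : IsZero ((Coh.Rpush f q).obj (unitMod Y)) := RP.isZero_of_isZero_τ _ (h0.of_iso e)
    have hz' : IsZero (CohB1.tensorMod ((Coh.Rpush f q).obj (unitMod Y)) (CohB1.tensorPow L m)) :=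
      (DCoh.tensorRightMod (CohB1.tensorPow L m)).map_isZero h1
    rw [finrank_HH_of_isZero k hz' p]
    exact Nat.zero_le _

/-- **S17623**. -/
theorem hhat_pullback_eq (H : X.Modules) (hH : CohB1.IsAmple H) (n : ℕ)
    (hn : topologicalKrullDim X = n) (f : Y ⟶ X)
    (hf : f ≫ (X ↘ Spec (CommRingCat.of k)) = Y ↘ Spec (CommRingCat.of k))
    (hgen : f (genericPoint Y) = genericPoint X) (d : ℕ)
    (hd : f.residueDegree (genericPoint Y) = d) (hd0 : 1 ≤ d)
    (L : X.Modules) (hL : PicF.IsInvertible L) (i : ℕ) :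
    W4c5asymptcohfn.hhat k Y n i ((Scheme.Modules.pullback f).obj L) =
      (d : ℝ) * W4c5asymptcohfn.hhat k X n i L := by
  haveI : f.IsOver (Spec (CommRingCat.of k)) := ⟨hf⟩
  haveI := QCQS.hasInjRes Y
  haveI : IsNoetherian X := Curve2.isNoetherian_of_proper k X
  haveI : IsNoetherian Y := Curve2.isNoetherian_of_proper k Y
  have hpos : 0 < f.residueDegree (genericPoint Y) := by rw [hd]; exact hd0
  obtain ⟨-, hg⟩ := gdim_push_unit_eq k f hf hgen hpos
  have hG := isCoh_push_unit k f hf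
  obtain ⟨C, hC⟩ := exists_Rpush_bound k H hH n hn f hf hgen hpos L hL
  have hkey : ∀ m : ℕ,
      Module.finrank k (Coh.HH Y (CohB1.tensorPow ((Scheme.Modules.pullback f).obj L) m) i) ≤
        Module.finrank k (Coh.HH X (CohB1.tensorMod ((Scheme.Modules.pushforward f).obj
          (unitMod Y)) (CohB1.tensorPow L m)) i) + (i * C) * bnd n m ∧
      Module.finrank k (Coh.HH X (CohB1.tensorMod ((Scheme.Modules.pushforward f).obj
          (unitMod Y)) (CohB1.tensorPow L m)) i) ≤
        Module.finrank k (Coh.HH Y (CohB1.tensorPow ((Scheme.Modules.pullback f).obj L) m) i) +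
          (i * C) * bnd n m := by
    intro m
    have hLm : PicF.IsInvertible (CohB1.tensorPow L m) := isInvertible_tensorPow hL m
    have hE := isFinLocFree_of_isInvertible _ hLm
    have hGm : Coh.IsCoh ((Scheme.Modules.pullback f).obj (CohB1.tensorPow L m)) :=
      isCoh_of_isInvertible (isInvertible_pullback f hLm)
    have hc : ∀ q p, 1 ≤ q → Module.finrank k (Coh.HH X ((Coh.Rpush f q).obj
        ((Scheme.Modules.pullback f).obj (CohB1.tensorPow L m))) p) ≤ C * bnd n m := by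
      intro q p hq
      obtain ⟨e⟩ := nonempty_Rpush_pullback_iso f (CohB1.tensorPow L m) hE q
      rw [FBC.finrank_HH_congr k e p]
      exact hC m q p hq
    obtain ⟨h1, h2⟩ := leray_close k f hGm (C * bnd n m) hc i
    obtain ⟨e⟩ := nonempty_push_pullback_iso f (CohB1.tensorPow L m) hE
    rw [FBC.finrank_HH_congr k e i, FBC.finrank_HH_congr k (pbTensorPowIso f L hL m) i] at h1 h2
    rw [Nat.mul_assoc]
    exact ⟨h1, h2⟩
  have h1 : W4c5asymptcohfn.hhat k Y n i ((Scheme.Modules.pullback f).obj L) =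
      W4c5asymptcohfn.hhatF k X n i ((Scheme.Modules.pushforward f).obj (unitMod Y)) L := by
    unfold W4c5asymptcohfn.hhat W4c5asymptcohfn.hhatF W4c5asymptcohfn.cohSeq
    exact limsup_eq_of_nat_bounds n (i * C) _ _ (fun m => (hkey m).1) (fun m => (hkey m).2)
  rw [h1, hhatF_eq_rank_mul_hhat k H hH n hn _ hG L hL i, hg, hd]

end Groth.Agent.H5.Hyper
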