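import Mathlib
import Groth.Agent.Lib.Helper5.Hyper.BirCover
import Groth.Agent.Lib.Helper5.IntN.InvAll
import Groth.Agent.Lib.Helper5.IntN.Klei6
import Groth.Agent.Lib.Helper5.IntN.BC4
import Groth.Agent.Lib.Helper5.Snap.Main
import Groth.Agent.Lib.Helper5.Snap.IntNumZ
import Groth.Agent.Lib.Helper5.DegC.Nef

/-!
# Kleiman's theorem on proper schemes (helper5; S11370)
-/

set_option autoImplicit false
universe u
open CategoryTheory CategoryTheory.Limits AlgebraicGeometry TopologicalSpace

namespace Groth.Agent.H5.Hyper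

open Groth.Agent.LD Groth.Agent.LD.QC Groth.Agent.H5.Curve4 Groth.Agent.H5.Snap
open Groth.Agent.H5.IntN Groth.Agent.H5.DegC

variable (k : Type u) [Field k] {X : Scheme.{u}}
  [X.Over (Spec (CommRingCat.of k))] [IsProper (X ↘ Spec (CommRingCat.of k))]

/-- Kleiman on a projective `W`: the top self-intersection of a nef module is `≥ 0`. -/
theorem coeff_nonneg_of_nefMod_projective {W : Scheme.{u}} [W.Over (Spec (CommRingCat.of k))]
    [IsProper (W ↘ Spec (CommRingCat.of k))] (A A' M : W.Modules) (hA : CohB1.IsAmple A)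
    (eA : Nonempty (CohB1.tensorMod A A' ≅ Coh.structureModule W))
    (hM : PicF.IsInvertible M) (hnef : NefMod k W M) (F : W.Modules) (hF : Coh.IsCoh F)
    (d : ℕ) (hdim : topologicalKrullDim (CohB1.support F) ≤ ((d : ℕ) : WithBot ℕ∞))
    (P : MvPolynomial (Fin d) ℚ)
    (hP : ∀ n : Fin d → ℕ, (Curv2.euler k W (Curv2.tensorPows F d (fun _ => M) n) : ℚ) =
      MvPolynomial.eval (fun i => (n i : ℚ)) P) :
    0 ≤ MvPolynomial.coeff (Finsupp.equivFunOnFinite.symm fun _ : Fin d => 1) P := by
  classical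
  haveI : IsNoetherian W := Curve2.isNoetherian_of_proper k W
  obtain ⟨D, hD⟩ := Groth.Agent.H9.ORB3.exists_nat_dim_le (W ↘ Spec (CommRingCat.of k))
  obtain ⟨M', hM', eM⟩ := Groth.Agent.H5.Glue.exists_inverse M hM
  have h1 := kProp k d W D hD A A' M M' hA eA hM eM hnef Finset.univ F hF hdim
  have hfam : fam M' A' (Finset.univ : Finset (Fin d)) = fun _ => M' := by
    funext j
    unfold fam
    rw [if_pos (Finset.mem_univ j)]
  rw [hfam, intNum_const_inv k D hD d M M' hM eM F hF hdim] at h1
  have h2 := intNum_eq_mixDiff k D hD d (fun _ => M) (fun _ => hM) F hF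
  have hchi : chiFn k W d (fun _ => M) F =
      fun n : Fin d → ℕ => MvPolynomial.eval (fun i => (n i : ℚ)) P := by
    funext n
    rw [← hP n, ← tpFun_obj]
    rfl
  rw [hchi, mixDiffL_eval d P
    (support_deg_le k F hF d hdim d (fun _ => M) (fun _ => hM) P hP)] at h2
  have h3 : (0 : ℚ) ≤ (((-1 : ℤ) ^ d * FGA.intNum k W D (fun _ : Fin d => M) F : ℤ) : ℚ) := by
    exact_mod_cast h1
  push_cast at h3
  rw [h2, ← mul_assoc, ← mul_pow] at h3
  simpa using h3


/-- **S11370** (Kleiman): on a proper scheme, `(L^d · Z) ≥ 0` for a nef invertible module. -/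
theorem coeff_nonneg_of_nef (L : X.Modules) (hL : PicF.IsInvertible L)
    (hnef : ∀ C : X.IdealSheafData, IsIntegral C.subscheme →
      topologicalKrullDim (C.support : Set X) = 1 →
        0 ≤ (Curv2.euler k X (CohB1.tensorMod (ClSub.quotMod C) L) -
          Curv2.euler k X (ClSub.quotMod C)))
    (Z : X.IdealSheafData) [IsIntegral Z.subscheme] (d : ℕ)
    (hZ : topologicalKrullDim (Z.support : Set X) = d)
    (P : MvPolynomial (Fin d) ℚ)
    (hP : ∀ n : Fin d → ℕ, (Curv2.euler k X (Curv2.tensorPows (ClSub.quotMod Z) d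
      (fun _ => L) n) : ℚ) = MvPolynomial.eval (fun i => (n i : ℚ)) P) :
    0 ≤ MvPolynomial.coeff (Finsupp.equivFunOnFinite.symm fun _ : Fin d => 1) P := by
  classical
  letI oZ : Z.subscheme.Over (Spec (CommRingCat.of k)) := overOf k Z.subschemeι
  haveI pZ : IsProper (Z.subscheme ↘ Spec (CommRingCat.of k)) := by
    change IsProper (Z.subschemeι ≫ (X ↘ Spec (CommRingCat.of k)))
    infer_instance
  obtain ⟨W, pW, π, A, A', ξ, hpW, hπ, hA, eA, hξ, hdimξ, hsurj⟩ :=
    exists_birational_projective k Z.subscheme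
  letI oW : W.Over (Spec (CommRingCat.of k)) := ⟨pW⟩
  haveI : IsProper (W ↘ Spec (CommRingCat.of k)) := hpW
  obtain ⟨f, hf_def⟩ : ∃ f : W ⟶ X, f = π ≫ Z.subschemeι := ⟨_, rfl⟩
  have hf : f ≫ (X ↘ Spec (CommRingCat.of k)) = W ↘ Spec (CommRingCat.of k) := by
    rw [hf_def, Category.assoc]
    exact hπ
  haveI := isIntegral_vI ξ
  have hZ'dim : topologicalKrullDim ((vI ξ).support : Set W) = d := by
    rw [coe_support_vI, hdimξ, Groth.Agent.H5.IntN.dim_subscheme_eq, hZ]
  have hgen : (vI ξ).subschemeι (genericPoint (vI ξ).subscheme) = ξ := by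
    have h1 : IsGenericPoint ((vI ξ).subschemeι (genericPoint (vI ξ).subscheme))
        (closure ((vI ξ).subschemeι '' Set.univ)) :=
      (genericPoint_spec (vI ξ).subscheme).image (vI ξ).subschemeι.continuous
    rw [Set.image_univ, Scheme.IdealSheafData.range_subschemeι, coe_support_vI,
      closure_closure] at h1
    exact h1.eq (isGenericPoint_closure)
  -- the scheme-theoretic image of the cover is `Z`
  haveI hdom : IsDominant ((vI ξ).subschemeι ≫ π) := by
    refine ⟨?_⟩
    rw [DenseRange, dense_iff_closure_eq]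
    apply Set.eq_univ_of_univ_subset
    have h1 : closure ({genericPoint Z.subscheme} : Set Z.subscheme) = Set.univ :=
      (genericPoint_spec Z.subscheme)
    rw [← h1]
    apply closure_mono
    rintro _ rfl
    refine ⟨genericPoint (vI ξ).subscheme, ?_⟩
    rw [Scheme.Hom.comp_apply, hgen, hξ]
  have hker : ((vI ξ).subschemeι ≫ f).ker = Z := by
    rw [hf_def, ← Category.assoc, ← Scheme.IdealSheafData.map_ker]
    haveI := IsSchemeTheoreticallyDominant.of_isDominant ((vI ξ).subschemeι ≫ π)
    rw [((vI ξ).subschemeι ≫ π).ker_eq_bot, Scheme.IdealSheafData.map_bot,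
      Scheme.IdealSheafData.ker_subschemeι]
  have hfL : PicF.IsInvertible ((Scheme.Modules.pullback f).obj L) := isInvertible_pullback f hL
  obtain ⟨PY, -, hPY⟩ := snapper k (ClSub.quotMod (vI ξ)) (isCoh_quotMod _) d
    (by rw [support_quotMod, hZ'dim]) d (fun _ => (Scheme.Modules.pullback f).obj L)
    (fun _ => hfL)
  have hPX : ∀ n : Fin d → ℕ, (Curv2.euler k X (Curv2.tensorPows
      (ClSub.quotMod ((vI ξ).subschemeι ≫ f).ker) d (fun _ => L) n) : ℚ) =
        MvPolynomial.eval (fun i => (n i : ℚ)) P := by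
    rw [hker]; exact hP
  have hmain := coeff_pullback_eq k f hf (vI ξ) d hZ'dim (fun _ => L) (fun _ => hL) PY P hPY hPX
  -- the residue degree is one
  have hdeg : ((vI ξ).subschemeι ≫ f).residueDegree (genericPoint (vI ξ).subscheme) = 1 := by
    apply residueDegree_eq_one_of_stalkMap_surjective
    have hsurj' : Function.Surjective
        (π.stalkMap ((vI ξ).subschemeι (genericPoint (vI ξ).subscheme))).hom := by
      rw [hgen]; exact hsurj
    have h1 : Function.Surjective
        (((vI ξ).subschemeι ≫ π).stalkMap (genericPoint (vI ξ).subscheme)).hom := by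
      rw [Scheme.Hom.stalkMap_comp]
      change Function.Surjective
        (((vI ξ).subschemeι.stalkMap (genericPoint (vI ξ).subscheme)).hom ∘
          (π.stalkMap ((vI ξ).subschemeι (genericPoint (vI ξ).subscheme))).hom)
      exact ((vI ξ).subschemeι.stalkMap_surjective _).comp hsurj'
    have h2 : Function.Surjective
        ((((vI ξ).subschemeι ≫ π) ≫ Z.subschemeι).stalkMap
          (genericPoint (vI ξ).subscheme)).hom := by
      rw [Scheme.Hom.stalkMap_comp]
      change Function.Surjective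
        ((((vI ξ).subschemeι ≫ π).stalkMap (genericPoint (vI ξ).subscheme)).hom ∘
          (Z.subschemeι.stalkMap (((vI ξ).subschemeι ≫ π)
            (genericPoint (vI ξ).subscheme))).hom)
      exact h1.comp (Z.subschemeι.stalkMap_surjective _)
    have he : (vI ξ).subschemeι ≫ f = ((vI ξ).subschemeι ≫ π) ≫ Z.subschemeι := by
      rw [hf_def, Category.assoc]
    rw [he]
    exact h2
  rw [hdeg, Nat.cast_one, one_mul] at hmain
  rw [← hmain]
  -- Kleiman on `W`
  have hNefP : NefP k (W ↘ Spec (CommRingCat.of k)) ((Scheme.Modules.pullback f).obj L) :=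
    NefP.pullback k (X ↘ Spec (CommRingCat.of k)) (W ↘ Spec (CommRingCat.of k)) f hf L hL
      ((nefP_iff_forall_ideal k L hL).mpr hnef)
  have hNef : NefMod k W ((Scheme.Modules.pullback f).obj L) :=
    nefMod_of_curveDeg k _ hfL hNefP
  exact coeff_nonneg_of_nefMod_projective k A A' _ hA eA hfL hNef (ClSub.quotMod (vI ξ))
    (isCoh_quotMod _) d (by rw [support_quotMod, hZ'dim]) PY hPY

end Groth.Agent.H5.Hyper
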