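import Mathlib
import Groth.Prelude.Def_Pi1
import Groth.Agent.Lib.Lead.Curve.Proper
import Groth.Agent.Lib.Helper1.ClosedDim
import Groth.Agent.Lib.Helper5.Hyper.ResChi

/-!
# The singular locus of a normal surface is zero-dimensional (helper5; S14058)
-/

set_option autoImplicit false
universe u
open CategoryTheory CategoryTheory.Limits AlgebraicGeometry TopologicalSpace

namespace Groth.Agent.H5.Hyper

section alg

/-- a Noetherian integrally closed local domain of dimension at most one is regular. -/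
theorem isRegularLocalRing_of_dim_le_one (R : Type*) [CommRing R] [IsLocalRing R] [IsDomain R]
    [IsNoetherianRing R] [IsIntegrallyClosed R] (h : ringKrullDim R ≤ 1) :
    IsRegularLocalRing R := by
  haveI : Ring.KrullDimLE 1 R := ⟨h⟩
  haveI : Ring.DimensionLEOne R :=
    ⟨fun {p} hp hprime => Ring.krullDimLE_one_iff_of_noZeroDivisors.mp inferInstance p hp hprime⟩
  haveI : IsDedekindRing R :=
    { toIsNoetherian := inferInstance
      toDimensionLEOne := inferInstance
      toIsIntegralClosure := (isIntegrallyClosed_iff_isIntegralClosure (FractionRing R)).mp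
        inferInstance }
  haveI : IsDedekindDomain R := { }
  exact IsRegularLocalRing.of_isRegularRing_of_isLocalRing R

end alg

section geom

attribute [local instance] specializationOrder

variable {X : Scheme.{u}}

/-- a non-closed point of a scheme of dimension `≤ d + 1` has a local ring of dimension `≤ d`. -/
theorem ringKrullDim_stalk_le_of_not_isClosed (d : ℕ) (hdim : topologicalKrullDim X ≤ (d + 1 : ℕ))
    (x : X) (hx : ¬ IsClosed ({x} : Set X)) : ringKrullDim (X.presheaf.stalk x) ≤ d := by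
  obtain ⟨y, hy, hne⟩ : ∃ y ∈ closure ({x} : Set X), y ≠ x := by
    by_contra hcon
    push Not at hcon
    apply hx
    have : closure ({x} : Set X) = {x} :=
      Set.Subset.antisymm (fun y hy => hcon y hy) subset_closure
    rw [← this]
    exact isClosed_closure
  have hsp : x ⤳ y := specializes_iff_mem_closure.mpr hy
  have hlt : y < x := lt_of_le_of_ne hsp hne
  have h1 : Order.coheight x + 1 ≤ Order.coheight y := Order.coheight_add_one_le hlt
  have h2 : ((Order.coheight y : ℕ∞) : WithBot ℕ∞) ≤ topologicalKrullDim X := by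
    rw [Groth.Agent.LD.Curve.topologicalKrullDim_eq_iSup_coheight]
    exact le_iSup (fun x : X => (Order.coheight x : WithBot ℕ∞)) y
  rw [ringKrullDim_stalk_eq_coheight]
  have h3 : ((Order.coheight x + 1 : ℕ∞) : WithBot ℕ∞) ≤ ((d + 1 : ℕ) : WithBot ℕ∞) :=
    (WithBot.coe_le_coe.mpr h1).trans (h2.trans hdim)
  have h4 : Order.coheight x + 1 ≤ ((d + 1 : ℕ) : ℕ∞) := by exact_mod_cast h3
  have h5 : Order.coheight x ≤ (d : ℕ∞) := by
    have : Order.coheight x + 1 ≤ (d : ℕ∞) + 1 := by exact_mod_cast h4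
    exact (ENat.add_le_add_iff_right ENat.one_ne_top).mp this
  exact_mod_cast h5

/-- the non-regular locus of a normal scheme of dimension `≤ 2` is zero-dimensional. -/
theorem dim_compl_le_zero_of_normal [IsLocallyNoetherian X] (hnorm : Pi1.IsNormalScheme X)
    (hdim : topologicalKrullDim X ≤ 2) (U : X.Opens)
    (hU : ∀ x : X, IsRegularLocalRing (X.presheaf.stalk x) → x ∈ U) :
    topologicalKrullDim ((U : Set X)ᶜ : Set X) ≤ 0 := by
  have hcl : ∀ x ∈ ((U : Set X)ᶜ : Set X), IsClosed ({x} : Set X) := by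
    intro x hx
    by_contra hnc
    apply hx
    apply hU
    have h1 := ringKrullDim_stalk_le_of_not_isClosed 1 (by exact_mod_cast hdim) x hnc
    obtain ⟨hdom, hic⟩ := hnorm x
    haveI := hdom
    haveI := hic
    exact isRegularLocalRing_of_dim_le_one _ (by exact_mod_cast h1)
  refine (Groth.Agent.H1.ClosedDim.dim_le_iSup_closure _ U.isOpen.isClosed_compl).trans ?_
  apply iSup_le
  intro x
  rw [(hcl x.1 x.2).closure_eq]
  exact dim_le_zero_of_subsingleton _

end geom

section final

open Groth.Agent.LD Groth.Agent.H5.Snap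

variable (k : Type u) [Field k] (X : Scheme.{u}) [X.Over (Spec (CommRingCat.of k))]
  [IsProper (X ↘ Spec (CommRingCat.of k))]

/-- **S14058**. -/
theorem isZero_R1_iff_of_resolution (hdimX : topologicalKrullDim X = 2)
    (hnorm : Pi1.IsNormalScheme X)
    (S : Scheme.{u}) (π : S ⟶ X) [IsProper π] [IrreducibleSpace S]
    (hdimS : topologicalKrullDim S = 2)
    (hO : IsIso (ClSub.unitToPush π))
    (U : X.Opens) (hU : ∀ x : X, x ∈ U ↔ IsRegularLocalRing (X.presheaf.stalk x))
    (hiso : IsIso (π ∣_ U)) :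
    letI : S.Over (Spec (CommRingCat.of k)) := ⟨π ≫ (X ↘ (Spec (CommRingCat.of k)))⟩
    IsZero ((Coh.RpushAb π 1).obj (Coh.toAb (Coh.structureModule S))) ↔
      Curv2.euler k S (Coh.structureModule S) = Curv2.euler k X (Coh.structureModule X) := by
  letI : S.Over (Spec (CommRingCat.of k)) := ⟨π ≫ (X ↘ (Spec (CommRingCat.of k)))⟩
  haveI : IsProper (S ↘ Spec (CommRingCat.of k)) := by
    change IsProper (π ≫ (X ↘ (Spec (CommRingCat.of k))))
    infer_instance
  haveI : π.IsOver (Spec (CommRingCat.of k)) := ⟨rfl⟩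
  haveI := hiso
  haveI := Curve.isLocallyNoetherian k X
  have hU0 : topologicalKrullDim ((U : Set X)ᶜ : Set X) ≤ 0 :=
    dim_compl_le_zero_of_normal hnorm (le_of_eq hdimX) U (fun x hx => (hU x).mpr hx)
  -- `U` is nonempty
  obtain ⟨x, hx⟩ : ∃ x : X, x ∈ U := by
    by_contra hcon
    push Not at hcon
    have huniv : ((U : Set X)ᶜ : Set X) = Set.univ := by
      ext y
      simp only [Set.mem_compl_iff, SetLike.mem_coe, Set.mem_univ, iff_true]
      exact hcon y
    rw [huniv, ← IsHomeomorph.topologicalKrullDim_eq _ (Homeomorph.Set.univ X).symm.isHomeomorph,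
      hdimX] at hU0
    exact absurd hU0 (by norm_num)
  obtain ⟨s, hs⟩ := ((π ∣_ U).homeomorph).surjective (⟨x, hx⟩ : U.toScheme)
  have hne : (((π ⁻¹ᵁ U : S.Opens) : Set S)ᶜ : Set S) ≠ Set.univ := by
    intro h
    have : s.1 ∈ (((π ⁻¹ᵁ U : S.Opens) : Set S)ᶜ : Set S) := by rw [h]; trivial
    exact this s.2
  have hE : topologicalKrullDim (((π ⁻¹ᵁ U : S.Opens) : Set S)ᶜ : Set S) ≤ 1 := by
    have h1 := dim_lt_of_isClosed_ne_univ _ (π ⁻¹ᵁ U).isOpen.isClosed_compl hne 2
      (le_of_eq hdimS)
    exact Order.le_of_lt_succ (by exact_mod_cast h1)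
  exact isZero_R1_iff_euler_eq k π U hU0 hE ⟨@asIso _ _ _ _ _ hO⟩

end final

end Groth.Agent.H5.Hyper
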