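import Mathlib
import Groth.Agent.Lib.Helper5.Hyper.ResChi
import Groth.Agent.Lib.Helper5.Hyper.BirCover
import Groth.Agent.Lib.Helper1.PushO5
import Groth.Agent.H4.SmRed2

/-!
# `R¹π_* O = 0 ⟺ χ equal` for a resolution of an isolated normal surface singularity
(helper5; S13129)
-/

set_option autoImplicit false
universe u
open CategoryTheory CategoryTheory.Limits AlgebraicGeometry TopologicalSpace

namespace Groth.Agent.H5.Hyper

open Groth.Agent.LD Groth.Agent.H5.Snap

section unit

variable {X Y : Scheme.{u}} [IsIntegral X] [IsIntegral Y] (π : X ⟶ Y)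

/-- a proper morphism of integral schemes to a normal scheme which is an isomorphism over a
nonempty open satisfies `π_* O_X = O_Y`. -/
theorem isIso_unitToPush_of_normal [UniversallyClosed π] (hYn : Pi1.IsNormalScheme Y)
    (U : Y.Opens) [IsIso (π ∣_ U)] (hηU : genericPoint Y ∈ U) :
    IsIso (ClSub.unitToPush π) := by
  obtain ⟨ξ, hξ⟩ := ((π ∣_ U).homeomorph).surjective (⟨genericPoint Y, hηU⟩ : U.toScheme)
  have hξ' : π ξ.1 = genericPoint Y := by
    have := congrArg (fun z : U.toScheme => (z.1 : Y)) hξ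
    rwa [Scheme.Hom.homeomorph_apply, morphismRestrict_base_coe] at this
  have hgen : π (genericPoint X) = genericPoint Y := by
    have h1 : genericPoint X ⤳ ξ.1 := (genericPoint_spec X).specializes trivial
    have h2 : π (genericPoint X) ⤳ π ξ.1 := h1.map π.continuous
    rw [hξ'] at h2
    have h3 : genericPoint Y ⤳ π (genericPoint X) := (genericPoint_spec Y).specializes trivial
    exact (h2.antisymm h3).eq
  have hdom : π.base (genericPoint X) ⤳ genericPoint Y := by
    change π (genericPoint X) ⤳ genericPoint Y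
    rw [hgen]
  have hs : Function.Surjective (π.stalkMap (genericPoint X)).hom :=
    stalkMap_surjective_of_isIso_restrict π U _ (by rw [hgen]; exact hηU)
  have hsurj := Groth.Agent.H1.PushO.stalkToFunctionField_surjective_of_stalkMap π hdom hs
  have happ : ∀ V : Y.Opens, IsIso (π.app V) :=
    Groth.Agent.H1.PushO.isIso_app' π hdom hYn (fun x _ => hsurj x)
  rw [Scheme.Modules.Hom.isIso_iff_isIso_app]
  intro V
  rw [ConcreteCategory.isIso_iff_bijective]
  exact (ConcreteCategory.isIso_iff_bijective (π.app V)).mp (happ V)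

end unit


section final

variable (k : Type u) [Field k] (X Y : Scheme.{u})
  [X.Over (Spec (CommRingCat.of k))] [Y.Over (Spec (CommRingCat.of k))]
  [IsProper (X ↘ Spec (CommRingCat.of k))] [IsProper (Y ↘ Spec (CommRingCat.of k))]

/-- **S13129**. -/
theorem isZero_R1_iff_of_isolated [IrreducibleSpace X] [IrreducibleSpace Y]
    (hdY : topologicalKrullDim Y = 2) [Smooth (X ↘ Spec (CommRingCat.of k))]
    (hYn : Pi1.IsNormalScheme Y) (π : X ⟶ Y) [π.IsOver (Spec (CommRingCat.of k))]
    (y : Y) (hy : IsClosed ({y} : Set Y))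
    (hiso : IsIso (π ∣_ (⟨({y} : Set Y)ᶜ, hy.isOpen_compl⟩ : Y.Opens)))
    (hfib : topologicalKrullDim ((fun x : X => π.base x) ⁻¹' ({y} : Set Y)) = 1) :
    IsZero ((Coh.RpushAb π 1).obj (Coh.toAb (Coh.structureModule X))) ↔
      Curv2.euler k X (Coh.structureModule X) = Curv2.euler k Y (Coh.structureModule Y) := by
  haveI : IsReduced X :=
    Groth.Agent.H4.SmRed.isReduced_of_smooth_scheme (X ↘ Spec (CommRingCat.of k))
  haveI : IsIntegral X := isIntegral_of_irreducibleSpace_of_isReduced X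
  haveI : IsReduced Y := by
    haveI : ∀ x : Y, _root_.IsReduced (Y.presheaf.stalk x) := fun x => by
      haveI := (hYn x).1
      infer_instance
    exact isReduced_of_isReduced_stalk Y
  haveI : IsIntegral Y := isIntegral_of_irreducibleSpace_of_isReduced Y
  haveI := hiso
  haveI := QCQS.hasInjRes X
  haveI : IsProper π := isProper_of_over k π
  have hUc : (((⟨({y} : Set Y)ᶜ, hy.isOpen_compl⟩ : Y.Opens) : Set Y)ᶜ : Set Y) = {y} :=
    compl_compl _
  have hU0 : topologicalKrullDim
      ((((⟨({y} : Set Y)ᶜ, hy.isOpen_compl⟩ : Y.Opens) : Set Y)ᶜ : Set Y)) ≤ 0 := by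
    rw [hUc]
    exact dim_le_zero_of_subsingleton _
  have hηU : genericPoint Y ∈ (⟨({y} : Set Y)ᶜ, hy.isOpen_compl⟩ : Y.Opens) := by
    intro h
    have h1 : genericPoint Y = y := h
    have h2 : closure ({y} : Set Y) = Set.univ := by
      rw [← h1]; exact (genericPoint_spec Y)
    rw [hy.closure_eq] at h2
    have h3 : topologicalKrullDim Y ≤ 0 := by
      rw [IsHomeomorph.topologicalKrullDim_eq _ (Homeomorph.Set.univ Y).symm.isHomeomorph, ← h2]
      exact dim_le_zero_of_subsingleton _
    rw [hdY] at h3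
    exact absurd h3 (by norm_num)
  have hE : topologicalKrullDim ((((π ⁻¹ᵁ (⟨({y} : Set Y)ᶜ, hy.isOpen_compl⟩ : Y.Opens) :
      X.Opens) : Set X)ᶜ : Set X)) ≤ 1 := by
    have h1 : ((((π ⁻¹ᵁ (⟨({y} : Set Y)ᶜ, hy.isOpen_compl⟩ : Y.Opens) :
        X.Opens) : Set X)ᶜ : Set X)) = (fun x : X => π.base x) ⁻¹' ({y} : Set Y) := by
      ext x
      change ¬ (π x ∈ ({y} : Set Y)ᶜ) ↔ π x ∈ ({y} : Set Y)
      rw [Set.mem_compl_iff, not_not]
    rw [h1, hfib]
  have hO := isIso_unitToPush_of_normal π hYn _ hηU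
  exact isZero_R1_iff_euler_eq k π _ hU0 hE ⟨@asIso _ _ _ _ _ hO⟩

end final

end Groth.Agent.H5.Hyper
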