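import Mathlib
import Groth.Agent.Lib.Helper1.ThickAff5

/-!
# A square-zero thickening of a smooth affine scheme over a field splits (helper5; S17661)
-/

set_option autoImplicit false
universe u
open CategoryTheory CategoryTheory.Limits AlgebraicGeometry TopologicalSpace Opposite

namespace Groth.Agent.H5.Hyper

/-- a nilpotent ideal sheaf has full support. -/
lemma surjective_subschemeι_of_sq_zero {C : Scheme.{u}} (I : C.IdealSheafData) (hI : I ^ 2 = ⊥) :
    Function.Surjective I.subschemeι := by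
  intro x
  have h1 : (I ^ 2).support = I.support := Scheme.IdealSheafData.support_pow I 2 (by norm_num)
  rw [hI, Scheme.IdealSheafData.support_bot] at h1
  have hx : x ∈ Set.range I.subschemeι := by
    rw [Scheme.IdealSheafData.range_subschemeι, ← h1]
    trivial
  exact hx

/-- **S17661**: a square-zero thickening `C` of a smooth affine `S`-scheme `D` (`S` affine) admits
a retraction `C → D` over `S`. -/
theorem exists_retraction_of_sq_zero {C S : Scheme.{u}} [IsAffine S] (sC : C ⟶ S)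
    (I : C.IdealSheafData) (hI : I ^ 2 = ⊥) [IsAffine I.subscheme]
    [Smooth (I.subschemeι ≫ sC)] :
    ∃ r : C ⟶ I.subscheme, I.subschemeι ≫ r = 𝟙 I.subscheme ∧ r ≫ I.subschemeι ≫ sC = sC := by
  haveI : IsAffine C := Groth.Agent.H1.ThickAff.isAffine_of_thickening I.subschemeι
    (surjective_subschemeι_of_sq_zero I hI)
  -- notation
  obtain ⟨ι, hι⟩ : ∃ ι : I.subscheme ⟶ C, ι = I.subschemeι := ⟨_, rfl⟩
  haveI : IsClosedImmersion ι := by rw [hι]; infer_instance
  haveI : Smooth (ι ≫ sC) := by rw [hι]; infer_instance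
  obtain ⟨sD, hsD⟩ : ∃ sD : I.subscheme ⟶ S, sD = ι ≫ sC := ⟨_, rfl⟩
  haveI : Smooth sD := by rw [hsD]; infer_instance
  -- algebra structures
  letI algA : Algebra Γ(S, ⊤) Γ(C, ⊤) := (sC.appTop).hom.toAlgebra
  letI algB : Algebra Γ(S, ⊤) Γ(I.subscheme, ⊤) := (sD.appTop).hom.toAlgebra
  have hsm : RingHom.Smooth (sD.appTop).hom :=
    (HasRingHomProperty.iff_of_isAffine (P := @Smooth)).mp inferInstance
  haveI hfs : Algebra.FormallySmooth Γ(S, ⊤) Γ(I.subscheme, ⊤) := by
    have h := hsm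
    unfold RingHom.Smooth at h
    exact h.formallySmooth
  -- the restriction map as an algebra map
  let φ : Γ(C, ⊤) →ₐ[Γ(S, ⊤)] Γ(I.subscheme, ⊤) :=
    { toRingHom := ι.appTop.hom
      commutes' := by
        intro a
        change ι.appTop.hom ((sC.appTop).hom a) = (sD.appTop).hom a
        rw [hsD, Scheme.Hom.comp_appTop]
        rfl }
  have hsurj : Function.Surjective φ :=
    (IsClosedImmersion.isAffine_surjective_of_isAffine ι).2
  have hker : RingHom.ker (φ : Γ(C, ⊤) →+* Γ(I.subscheme, ⊤)) =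
      I.ideal ⟨⊤, isAffineOpen_top C⟩ := by
    have h := I.ker_subschemeι_app ⟨⊤, isAffineOpen_top C⟩
    rw [← hι] at h
    exact h
  have hnil : IsNilpotent (RingHom.ker (φ : Γ(C, ⊤) →+* Γ(I.subscheme, ⊤))) := by
    refine ⟨2, ?_⟩
    rw [hker]
    have h2 : (I ^ 2).ideal ⟨⊤, isAffineOpen_top C⟩ = (I.ideal ⟨⊤, isAffineOpen_top C⟩) ^ 2 := by
      rw [Scheme.IdealSheafData.ideal_pow]; rfl
    rw [← h2, hI]
    rfl
  let σ : Γ(I.subscheme, ⊤) →ₐ[Γ(S, ⊤)] Γ(C, ⊤) :=
    Algebra.FormallySmooth.liftOfSurjective (AlgHom.id _ _) φ hsurj hnil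
  have hσ : ∀ x, φ (σ x) = x := fun x =>
    Algebra.FormallySmooth.liftOfSurjective_apply (AlgHom.id _ _) φ hsurj hnil x
  let σ' : Γ(I.subscheme, ⊤) ⟶ Γ(C, ⊤) := CommRingCat.ofHom (σ : Γ(I.subscheme, ⊤) →+* Γ(C, ⊤))
  have h1 : σ' ≫ ι.appTop = 𝟙 _ := by
    ext x
    exact hσ x
  have h2 : sD.appTop ≫ σ' = sC.appTop := by
    ext a
    exact σ.commutes a
  refine ⟨C.toSpecΓ ≫ Spec.map σ' ≫ I.subscheme.isoSpec.inv, ?_, ?_⟩
  · rw [← hι, ← Category.assoc, Scheme.toSpecΓ_naturality, Category.assoc,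
      ← Spec.map_comp_assoc, h1, Spec.map_id, Category.id_comp]
    exact I.subscheme.isoSpec.hom_inv_id
  · rw [← hι, ← hsD, ← cancel_mono S.toSpecΓ]
    simp only [Category.assoc]
    rw [Scheme.toSpecΓ_naturality sD, Scheme.toSpecΓ_naturality sC]
    have h3 : I.subscheme.isoSpec.inv ≫ I.subscheme.toSpecΓ = 𝟙 _ :=
      I.subscheme.isoSpec.inv_hom_id
    rw [reassoc_of% h3, ← Spec.map_comp, h2]

end Groth.Agent.H5.Hyper
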