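import Mathlib
import Groth.Agent.Lib.Helper5.Hyper.H0Push
import Groth.Agent.Lib.Helper5.Curve6.P1Conv
import Groth.Agent.Lib.Helper5.IntN.Hilb
import Groth.Agent.Lib.Helper5.DegC.PushEuler
import Groth.Agent.Lib.Helper5.DegC.Cartier
import Groth.Agent.Lib.Lead.QC.ClosedUnit
import Groth.Agent.Lib.Lead.QC.IdealMod
import Groth.Agent.Lib.Helper5.Snap.TP

/-!
# The degree of an invertible module on a ribbon over the projective line (helper5; S17660)
-/

set_option autoImplicit false
universe u
open CategoryTheory CategoryTheory.Limits AlgebraicGeometry TopologicalSpace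

namespace Groth.Agent.H5.Hyper

open Groth.Agent.LD Groth.Agent.LD.QC Groth.Agent.H5.Curve4 Groth.Agent.H5.DegC
open Groth.Agent.H5.Curve6 Groth.Agent.H5.Snap

section sqzero

variable {C : Scheme.{u}} (I : C.IdealSheafData)

/-- the ideal module of a square-zero ideal is a direct image from the closed subscheme. -/
theorem isIso_unit_idealMod_of_sq_zero (hI : I ^ 2 = ⊥) :
    IsIso ((Scheme.Modules.pullbackPushforwardAdjunction I.subschemeι).unit.app
      (ClSub.idealMod I)) := by
  haveI : (ClSub.idealMod I).IsQuasicoherent := qc_idealMod I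
  rw [isIso_unit_closedImmersion_iff]
  intro U a ha s
  rw [Scheme.IdealSheafData.ker_subschemeι] at ha
  haveI : Mono (ClSub.idealModι I) := inferInstanceAs (Mono (kernel.ι _))
  apply mono_app (ClSub.idealModι I) U.1
  rw [map_zero, Scheme.Modules.Hom.app_smul]
  obtain ⟨s', hs'⟩ : ∃ s' : Γ(C, U.1), (ClSub.idealModι I).app U.1 s = s' := ⟨_, rfl⟩
  have hs : s' ∈ I.ideal U := (exists_idealModι_app_eq_iff I U s').mp ⟨s, hs'⟩
  have h2 : a * s' ∈ (I ^ 2).ideal U := by
    rw [Scheme.IdealSheafData.ideal_pow, Pi.pow_apply, pow_two]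
    exact Ideal.mul_mem_mul ha hs
  rw [hI, Scheme.IdealSheafData.ideal_bot] at h2
  rw [hs']
  exact h2

end sqzero

variable (k : Type u) [Field k] {C : Scheme.{u}} [C.Over (Spec (CommRingCat.of k))]
  [IsProper (C ↘ Spec (CommRingCat.of k))]

/-- **S17660**. -/
theorem deg_ribbon (I : C.IdealSheafData) (hI : I ^ 2 = ⊥)
    (e : I.subscheme ≅ CohB1.ProjSpace 1 k)
    (he : e.hom ≫ CohB1.ProjSpace.toSpec 1 k = I.subschemeι ≫ (C ↘ Spec (CommRingCat.of k)))
    (g : ℕ)
    (hconormal : Nonempty ((Scheme.Modules.pullback I.subschemeι).obj (ClSub.idealMod I) ≅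
      (Scheme.Modules.pullback e.hom).obj (Twist.twistProjSpace 1 k (-((g : ℤ) + 1)))))
    (L : C.Modules) (hL : PicF.IsInvertible L) (n : ℤ)
    (hLD : Nonempty ((Scheme.Modules.pullback I.subschemeι).obj L ≅
      (Scheme.Modules.pullback e.hom).obj (Twist.twistProjSpace 1 k n))) :
    Curv2.deg k C L 1 = 2 * n := by
  haveI : IsNoetherian C := Curve2.isNoetherian_of_proper k C
  letI : I.subscheme.Over (Spec (CommRingCat.of k)) := overOf k I.subschemeι
  obtain ⟨eN⟩ := hconormal
  obtain ⟨eL⟩ := hLD
  have hE := isFinLocFree_of_isInvertible _ hL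
  have hLc := Groth.Agent.H5.Curve2.isCoh_of_isInvertible hL
  have hQc : Coh.IsCoh (ClSub.quotMod I) := isCoh_quotMod I
  have hOc := Groth.Agent.LD.PF.isCoh_unitMod C
  have hIc : Coh.IsCoh (ClSub.idealMod I) := isCoh_of_mono (ClSub.idealModι I) inferInstance hOc
  -- Euler characteristics on the subscheme
  have hχ : ∀ m : ℤ, Curv2.euler k I.subscheme
      ((Scheme.Modules.pullback e.hom).obj (Twist.twistProjSpace 1 k m)) = m + 1 := fun m => by
    rw [euler_pullback_of_isIso k e.hom he, euler_twist_P1]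
  -- the quotient terms
  have hq1 : Curv2.euler k C (ClSub.quotMod I) = 1 := by
    change Curv2.euler k C ((Scheme.Modules.pushforward I.subschemeι).obj
      (Coh.structureModule I.subscheme)) = 1
    rw [euler_push k I.subschemeι]
    have h0 := euler_pullback_of_isIso k e.hom he (unitMod (CohB1.ProjSpace 1 k))
    rw [Curve.euler_iso k I.subscheme (pbUnitIso e.hom)] at h0
    have h1 : Curv2.euler k (CohB1.ProjSpace 1 k) (unitMod (CohB1.ProjSpace 1 k)) =
        Curv2.euler k (CohB1.ProjSpace 1 k) (Twist.twistProjSpace 1 k 0) :=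
      (Curve.euler_iso k _ (Groth.Agent.LD.TW.twistZeroIso (CohB1.polyGrading 1 k))).symm
    rw [h1, euler_twist_P1] at h0
    simpa using h0
  have hq2 : Curv2.euler k C (CohB1.tensorMod (ClSub.quotMod I) L) = n + 1 := by
    obtain ⟨e1⟩ := nonempty_push_pullback_iso I.subschemeι L hE
    rw [← Curve.euler_iso k C e1, euler_push k I.subschemeι,
      Curve.euler_iso k I.subscheme eL, hχ]
  -- the ideal terms
  haveI hu := isIso_unit_idealMod_of_sq_zero I hI
  have eI : ClSub.idealMod I ≅ (Scheme.Modules.pushforward I.subschemeι).obj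
      ((Scheme.Modules.pullback I.subschemeι).obj (ClSub.idealMod I)) :=
    asIso ((Scheme.Modules.pullbackPushforwardAdjunction I.subschemeι).unit.app
      (ClSub.idealMod I))
  have hi1 : Curv2.euler k C (ClSub.idealMod I) = -(g : ℤ) := by
    rw [Curve.euler_iso k C eI, euler_push k I.subschemeι, Curve.euler_iso k I.subscheme eN, hχ]
    ring
  have hi2 : Curv2.euler k C (CohB1.tensorMod (ClSub.idealMod I) L) = n - g := by
    haveI := isIso_projHomL I.subschemeι
      ((Scheme.Modules.pullback I.subschemeι).obj (ClSub.idealMod I)) L hE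
    have e2 : CohB1.tensorMod (ClSub.idealMod I) L ≅
        (Scheme.Modules.pushforward I.subschemeι).obj
          (CohB1.tensorMod ((Scheme.Modules.pullback I.subschemeι).obj L)
            ((Scheme.Modules.pullback I.subschemeι).obj (ClSub.idealMod I))) :=
      tensorIso' eI (Iso.refl L) ≪≫ tensorCommAll _ _ ≪≫
        asIso (projHomL I.subschemeι
          ((Scheme.Modules.pullback I.subschemeι).obj (ClSub.idealMod I)) L)
    have e3 : CohB1.tensorMod ((Scheme.Modules.pullback I.subschemeι).obj L)
          ((Scheme.Modules.pullback I.subschemeι).obj (ClSub.idealMod I)) ≅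
        (Scheme.Modules.pullback e.hom).obj (Twist.twistProjSpace 1 k (n - ((g : ℤ) + 1))) :=
      tensorIso' eL eN ≪≫
        Groth.Agent.H5.IntN.pbTwistTensorIso e.hom n (-((g : ℤ) + 1)) _ (by ring)
    rw [Curve.euler_iso k C e2, euler_push k I.subschemeι, Curve.euler_iso k I.subscheme e3, hχ]
    ring
  -- additivity
  have hS := shortExact_idealMod I
  have h1 := Curve.euler_add k C _ hS hIc hOc hQc
  have hS' := shortExact_map_tensorRightMod hS L hL
  have h2 := Curve.euler_add k C _ hS' (isCoh_tensorMod' hIc hLc) (isCoh_tensorMod' hOc hLc)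
    (isCoh_tensorMod' hQc hLc)
  change Curv2.euler k C (unitMod C) = Curv2.euler k C (ClSub.idealMod I) +
    Curv2.euler k C (ClSub.quotMod I) at h1
  change Curv2.euler k C (CohB1.tensorMod (unitMod C) L) =
    Curv2.euler k C (CohB1.tensorMod (ClSub.idealMod I) L) +
    Curv2.euler k C (CohB1.tensorMod (ClSub.quotMod I) L) at h2
  rw [Curve.euler_iso k C (unitorL' L)] at h2
  unfold Curv2.deg
  change Curv2.euler k C L - ((1 : ℕ) : ℤ) * Curv2.euler k C (unitMod C) = 2 * n
  rw [h1, h2, hi1, hi2, hq1, hq2]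
  push_cast
  ring

end Groth.Agent.H5.Hyper
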