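import Mathlib
import Groth.Agent.Lib.Helper5.Hyper.Ruled1
import Groth.Agent.Lib.Helper5.Hyper.FibC
import Groth.Agent.Lib.Helper9.Misc.FlatCl
import Groth.Agent.Lib.Helper5.Curve6.H1Van
import Groth.Agent.Lib.Helper5.Curve6.PtDeg
import Groth.Agent.Lib.Helper5.Curve6.PtSeq
import Groth.Agent.Lib.Helper5.Curve6.P1Conv
import Groth.Agent.Lib.Helper5.Dom.B
import Groth.Agent.Lib.Helper3.AG.FibreDim
import Groth.Agent.Lib.Helper5.ArS.Len
import Groth.Agent.Lib.Helper9.Misc.GZC1
import Groth.Agent.Lib.Helper5.SD.SepPts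
import Groth.Agent.Lib.Lead.RR.SurfKit
import Groth.Agent.Lib.Helper5.NegCfg.TensorFin

/-!
# Ruled surfaces: flatness over the base curve and the cohomology of the closed fibres
(helper5; S11356, S12429, S11346)
-/

set_option autoImplicit false
universe u
open CategoryTheory CategoryTheory.Limits AlgebraicGeometry TopologicalSpace Opposite

namespace Groth.Agent.H5.Hyper

open Groth.Agent.LD Groth.Agent.LD.QC Groth.Agent.H5.Curve2 Groth.Agent.H5.Curve4
  Groth.Agent.H5.Curve6 Groth.Agent.H5.DegC Groth.Agent.H5.Snap Groth.Agent.H5.NegCfg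
  Groth.Agent.H5.IntN Groth.Agent.H5.Gro Groth.Agent.LD.RRS.Kit

section Flat

variable {X C : Scheme.{u}} [IsIntegral X] [IsIntegral C]

/-- a surjective morphism from an integral scheme onto a regular integral scheme of dimension
at most one is flat. -/
theorem flat_to_regular_curve (hdimC : topologicalKrullDim C ≤ 1)
    (hregC : ∀ x : C, IsRegularLocalRing (C.presheaf.stalk x))
    (π : X ⟶ C) (hsurj : Function.Surjective π) : Flat π := by
  haveI : IsDominant π := ⟨hsurj.denseRange⟩
  have hgen := (H5Dom.dominant_iff_generic π).mp inferInstance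
  rw [Flat.iff_flat_stalkMap]
  intro x
  haveI hpid : IsPrincipalIdealRing (C.presheaf.stalk (π x)) :=
    Groth.Agent.H9.FlatCl.isPrincipalIdealRing_of_regular _ (hregC _)
      ((Groth.Agent.H3.FibreDim.stalk_dim_le C _).trans hdimC)
  rw [RingHom.Flat]
  letI := (π.stalkMap x).hom.toAlgebra
  rw [Module.Flat.flat_iff_torsion_eq_bot_of_isBezout, eq_bot_iff]
  intro t ht
  obtain ⟨⟨b, hb⟩, hbt⟩ := (Submodule.mem_torsion_iff t).mp ht
  have hbt' : π.stalkMap x b * t = 0 := hbt
  rw [Submodule.mem_bot]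
  rcases mul_eq_zero.mp hbt' with h | h
  · exfalso
    have hb0 : b = 0 := by
      apply H5Dom.stalkMap_injective_of_generic π hgen x
      rw [h, map_zero]
    rw [hb0] at hb
    exact zero_notMem_nonZeroDivisors hb
  · exact h

end Flat

section Fibre

variable (k : Type u) [Field k] [IsAlgClosed k]
  (X : Scheme.{u}) [X.Over (Spec (CommRingCat.of k))] [IsProper (X ↘ Spec (CommRingCat.of k))]
  [IsIntegral X]
  (C : Scheme.{u}) [C.Over (Spec (CommRingCat.of k))] [IsProper (C ↘ Spec (CommRingCat.of k))]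
  [IsIntegral C]

attribute [local instance] Curv2.resAlgebra in
omit [IsIntegral C] in
/-- closed points of a proper scheme over an algebraically closed field are rational. -/
theorem resMap_bijective_of_isClosed (y : C) (hy : IsClosed ({y} : Set C)) :
    Function.Bijective (Curv2.resMap k C y) := by
  have h1 := finrank_H0_quotMod_ker k C y hy
  rw [ker_fromSpecResidueField, finrank_H0_quotMod_vI k C y] at h1
  refine ⟨(Curv2.resMap k C y).injective, ?_⟩
  have h3 := Subalgebra.bot_eq_top_of_finrank_eq_one h1.symm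
  intro a
  have ha : a ∈ (⊥ : Subalgebra k (C.residueField y)) := by rw [h3]; trivial
  obtain ⟨c, hc⟩ := Algebra.mem_bot.mp ha
  exact ⟨c, hc⟩

omit [IsProper (X ↘ Spec (CommRingCat.of k))] [IsIntegral X]
  [IsProper (C ↘ Spec (CommRingCat.of k))] [IsIntegral C] [IsAlgClosed k] in
/-- the dimension of the cohomology of a fibre over `κ(y)` and over `k` agree at a rational
point. -/
theorem finrank_fiberH_eq (π : X ⟶ C)
    (hπ : π ≫ (C ↘ Spec (CommRingCat.of k)) = (X ↘ Spec (CommRingCat.of k)))
    (y : C) (hbij : Function.Bijective (Curv2.resMap k C y)) (M : X.Modules) (p : ℕ) :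
    letI : (π.fiber y).Over (Spec (CommRingCat.of k)) :=
      ⟨π.fiberι y ≫ (X ↘ Spec (CommRingCat.of k))⟩
    Module.finrank (C.residueField y) (CohIII.fiberH π M y p) =
      Module.finrank k (Coh.HH (π.fiber y) (CohIII.fiberMod π M y) p) := by
  letI : (π.fiber y).Over (Spec (CommRingCat.of k)) :=
    ⟨π.fiberι y ≫ (X ↘ Spec (CommRingCat.of k))⟩
  unfold Module.finrank
  congr 1
  symm
  refine rank_eq_of_equiv_equiv (Curv2.resMap k C y) (AddEquiv.refl _) hbij ?_
  intro r m
  have hr : Coh.toGlobal (π.fiberι y ≫ (X ↘ Spec (CommRingCat.of k))) r =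
      Coh.toGlobal (A := C.residueField y) (π.fiberToSpecResidueField y)
        (Curv2.resMap k C y r) := by
    have h1 := Groth.Agent.H5.ArS.toGlobal_comp_specMap (Curv2.resMap k C y)
      (π.fiberToSpecResidueField y) r
    have h2 : π.fiberι y ≫ (X ↘ Spec (CommRingCat.of k)) =
        π.fiberToSpecResidueField y ≫ Spec.map (CommRingCat.ofHom (Curv2.resMap k C y)) := by
      have h3 := Groth.Agent.H9.GZC.specMap_resMap k C y
      have h4 : π.fiberι y ≫ (X ↘ Spec (CommRingCat.of k)) =
          π.fiberToSpecResidueField y ≫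
            (C.fromSpecResidueField y ≫ (C ↘ Spec (CommRingCat.of k))) := by
        rw [← hπ, ← Category.assoc, ← Category.assoc]
        congr 1
        exact pullback.condition
      rw [h4]
      congr 1
      exact h3.symm
    rw [h2]
    exact h1
  change (Coh.toGlobal (π.fiberι y ≫ (X ↘ Spec (CommRingCat.of k))) r) • m =
    (Coh.toGlobal (A := C.residueField y) (π.fiberToSpecResidueField y)
      (Curv2.resMap k C y r)) • m
  rw [hr]

include k in
omit [IsAlgClosed k] [IsIntegral C] in
/-- the ideal of a closed fibre of a surjection onto a regular curve is invertible. -/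
theorem isInvertible_idealMod_fibre (hdimC : topologicalKrullDim C = 1) [IsIntegral C]
    (hregC : ∀ x : C, IsRegularLocalRing (C.presheaf.stalk x))
    (π : X ⟶ C) (hsurj : Function.Surjective π) (y : C) (hy : IsClosed ({y} : Set C)) :
    PicF.IsInvertible (ClSub.idealMod
      ((Scheme.IdealSheafData.vanishingIdeal ⟨{y}, hy⟩).comap π)) := by
  haveI := Curve.isLocallyNoetherian k X
  haveI := Curve.isLocallyNoetherian k C
  haveI := nontrivial_of_dim_one hdimC
  obtain ⟨Iy, hIy⟩ : ∃ I, I = Scheme.IdealSheafData.vanishingIdeal (⟨{y}, hy⟩ : Closeds C) :=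
    ⟨_, rfl⟩
  rw [← hIy]
  have hD : BlowUp.IsEffCartierIdeal Iy := by
    rw [hIy]
    exact isEffCartierIdeal_of_isRegularLocalRing hdimC.le y hy
      (ne_genericPoint_of_isClosed_of_dim_one hdimC y hy) (hregC y)
  have hgen : π (genericPoint X) ∉ Iy.support := by
    intro h
    have h1 : π (genericPoint X) ∈ (Iy.support : Set C) := h
    rw [hIy, Scheme.IdealSheafData.coe_support_vanishingIdeal] at h1
    have h2 : π (genericPoint X) = y := h1
    have hall : ∀ x : X, π x = y := by
      intro x
      have hcl : IsClosed (π ⁻¹' ({y} : Set C)) := hy.preimage π.continuous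
      exact (genericPoint_specializes x).mem_closed hcl h2
    obtain ⟨z, hz⟩ := exists_ne y
    obtain ⟨x, rfl⟩ := hsurj z
    exact hz (hall x)
  exact (isInvertible_idealMod_iff _).mpr (isEffCartierIdeal_comap_of_generic π Iy hD hgen)

set_option maxHeartbeats 1600000 in
/-- **the cohomology of a closed fibre `≅ P¹` of a ruled surface**: if `L` has degree `n ≥ 0`
on the fibre over `y` then `H¹(X_y, L_y) = 0` and `h⁰(X_y, L_y) = n + 1`. -/
theorem fibre_cohomology (hdim : topologicalKrullDim X = 2)
    (hreg : ∀ x : X, IsRegularLocalRing (X.presheaf.stalk x))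
    (hdimC : topologicalKrullDim C = 1)
    (hregC : ∀ x : C, IsRegularLocalRing (C.presheaf.stalk x))
    (π : X ⟶ C) (hπ : π ≫ (C ↘ Spec (CommRingCat.of k)) = (X ↘ Spec (CommRingCat.of k)))
    (hsurj : Function.Surjective π)
    (y : C) (hy : IsClosed ({y} : Set C))
    (φ : pullback π (C.fromSpecResidueField y) ≅ CohB1.ProjSpace 1 k)
    (L : X.Modules) (hL : PicF.IsInvertible L) (n : ℕ)
    (hn : FGA.intNum k X 2 ![L, ClSub.idealMod
      ((Scheme.IdealSheafData.vanishingIdeal ⟨{y}, hy⟩).comap π)] (Coh.structureModule X) =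
        -(n : ℤ)) :
    Subsingleton (CohIII.fiberH π L y 1) ∧ CohIII.fiberRank π L 0 y = n + 1 := by
  classical
  haveI := Curve.isLocallyNoetherian k X
  have hd : topologicalKrullDim X ≤ ((2 : ℕ) : WithBot ℕ∞) := le_of_eq hdim
  have hJinv := isInvertible_idealMod_fibre k X C hdimC hregC π hsurj y hy
  obtain ⟨J, hJdef⟩ : ∃ J, J =
      (Scheme.IdealSheafData.vanishingIdeal (⟨{y}, hy⟩ : Closeds C)).comap π := ⟨_, rfl⟩
  rw [← hJdef] at hn hJinv
  haveI : IsClosedImmersion (C.fromSpecResidueField y) :=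
    isClosed_singleton_iff_isClosedImmersion.mp hy
  haveI hci : IsClosedImmersion (π.fiberι y) := by
    change IsClosedImmersion (pullback.fst π (C.fromSpecResidueField y))
    infer_instance
  have hker : (π.fiberι y).ker = J := by
    rw [hJdef]
    change (pullback.fst π (C.fromSpecResidueField y)).ker = _
    rw [Scheme.IdealSheafData.ker_fst_of_isClosedImmersion, ker_fromSpecResidueField]
    congr 1
    change Scheme.IdealSheafData.vanishingIdeal _ = _
    congr 1
    exact Closeds.ext hy.closure_eq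
  letI i1 : (π.fiber y).Over (Spec (CommRingCat.of k)) :=
    ⟨π.fiberι y ≫ (X ↘ Spec (CommRingCat.of k))⟩
  haveI hprop : IsProper (π.fiber y ↘ Spec (CommRingCat.of k)) := by
    change IsProper (π.fiberι y ≫ (X ↘ Spec (CommRingCat.of k)))
    infer_instance
  let φ' : π.fiber y ≅ P1 k := φ
  haveI : Nonempty (π.fiber y) := ⟨φ'.inv (Classical.arbitrary (P1 k))⟩
  haveI hint : IsIntegral (π.fiber y) := isIntegral_of_isOpenImmersion φ'.hom
  have hF1 : topologicalKrullDim (π.fiber y) = 1 := by
    rw [IsHomeomorph.topologicalKrullDim_eq _ (Scheme.homeoOfIso φ').isHomeomorph,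
      Groth.Agent.H5.IntN.dim_projSpace]
    rfl
  -- `H¹(F, O_F) = 0`
  have hsub : Subsingleton (Coh.HH (π.fiber y) (Coh.structureModule (π.fiber y)) 1) := by
    letI i2 : (π.fiber y).Over (Spec (CommRingCat.of k)) :=
      ⟨φ'.hom ≫ CohB1.ProjSpace.toSpec 1 k⟩
    haveI : IsProper (π.fiber y ↘ Spec (CommRingCat.of k)) := by
      change IsProper (φ'.hom ≫ CohB1.ProjSpace.toSpec 1 k)
      haveI : IsProper (CohB1.ProjSpace.toSpec 1 k) := Groth.Agent.H5.AG.isProper_toSpec 1 k
      infer_instance
    have h1 := finrank_HH_pullback_of_isIso k φ'.hom rfl (unitMod (P1 k)) 1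
    have h2 : Module.finrank k (Coh.HH (P1 k) (unitMod (P1 k)) 1) = 0 := genus_P1 k
    rw [h2, Curve2.finrank_HH_iso k (π.fiber y) (pbUnitIso φ'.hom) 1] at h1
    haveI := Curve.isLocallyNoetherian k (π.fiber y)
    haveI := Groth.Agent.S0002.result k (π.fiber y) (unitMod (π.fiber y))
      (Groth.Agent.LD.PF.isCoh_unitMod _) 1
    exact Module.finrank_zero_iff.mp h1
  have hg : Curv2.genus k (π.fiber y) = 0 := by
    unfold Curv2.genus
    exact Module.finrank_zero_of_subsingleton
  have h0 : Module.finrank k (Coh.HH (π.fiber y) (Coh.structureModule (π.fiber y)) 0) = 1 :=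
    Groth.Agent.H5.Curve3.finrank_HH0_eq_one_of_isAlgClosed k (π.fiber y)
  -- the degree on the fibre
  obtain ⟨L', hL', ⟨eL⟩⟩ := Groth.Agent.H5.Glue.exists_inverse L hL
  have hd1 : FGA.intNum k X 2 ![ClSub.idealMod (π.fiberι y).ker, L'] (Coh.structureModule X) =
      Curv2.deg k (π.fiber y) ((Scheme.Modules.pullback (π.fiberι y)).obj L) 1 :=
    intNum_idealMod_ker_eq_deg k X hdim hreg (π.fiber y) (π.fiberι y) hF1 L L' hL ⟨eL⟩
  rw [hker] at hd1
  have hdegL : Curv2.deg k (π.fiber y) ((Scheme.Modules.pullback (π.fiberι y)).obj L) 1 = n := by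
    rw [← hd1, intNum_comm k _ _ hJinv hL', intNum_inv_left k hd L L' _ hL hJinv eL, hn]
    ring
  have hpL := isInvertible_pullback (π.fiberι y) hL
  refine ⟨?_, ?_⟩
  · exact subsingleton_H1_of_deg_ge k (π.fiber y) hF1 _ hpL
      (by rw [hg, hdegL]; push_cast; omega)
  · have h3 := Groth.Agent.H5.SD.finrank_H0_of_deg_gt k (π.fiber y) hF1 h0 _ hpL
      (by rw [hg, hdegL]; push_cast; omega)
    rw [hg, hdegL] at h3
    have hbij := resMap_bijective_of_isClosed k C y hy
    have h4 : Module.finrank (C.residueField y) (CohIII.fiberH π L y 0) =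
        Module.finrank k (Coh.HH (π.fiber y) (CohIII.fiberMod π L y) 0) :=
      finrank_fiberH_eq k X C π hπ y hbij L 0
    unfold CohIII.fiberRank
    refine h4.trans ?_
    have h5 : (Module.finrank k (Coh.HH (π.fiber y) (CohIII.fiberMod π L y) 0) : ℤ) =
        ((n + 1 : ℕ) : ℤ) := by
      rw [h3]; push_cast; ring
    exact_mod_cast h5

end Fibre

end Groth.Agent.H5.Hyper
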