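import Mathlib
import Groth.Agent.Lib.Helper5.Hyper.Ruled2
import Groth.Agent.Lib.Helper2.SeeE
import Groth.Agent.Lib.Lead.QC.InvBasis
import Groth.Agent.Lib.Lead.QC.SubExt
import Groth.Agent.Lib.Helper5.Gro.HypDom
import Groth.Agent.S2385
import Groth.Agent.S2390

/-!
# Ruled surfaces: higher direct images, the direct image of an invertible module, and
`π_* O_X = O_C` (helper5; S11356, S12429, S11346)
-/

set_option autoImplicit false
universe u
open CategoryTheory CategoryTheory.Limits AlgebraicGeometry TopologicalSpace Opposite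

namespace Groth.Agent.H5.Hyper

open Groth.Agent.LD Groth.Agent.LD.QC Groth.Agent.H5.Curve2 Groth.Agent.H5.Curve4
  Groth.Agent.H5.Curve6 Groth.Agent.H5.DegC Groth.Agent.H5.Snap Groth.Agent.H5.NegCfg
  Groth.Agent.H5.IntN Groth.Agent.H5.Gro Groth.Agent.LD.RRS.Kit

section Alg

/-- a retraction `τ` of `p` for which some element generates the target over the source is an
inverse of `p`. -/
lemma retract_of_gen {A B : Type*} [CommRing A] [CommRing B] (p : A →+* B) (τ : B →+* A)
    (hτp : ∀ a, τ (p a) = a) (e' : B) (hgen : ∀ t : B, ∃ a : A, p a * e' = t) (t : B) :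
    p (τ t) = t := by
  obtain ⟨a, ha⟩ := hgen t
  obtain ⟨b, hb⟩ := hgen 1
  have h1 : b * τ e' = 1 := by
    have := congrArg τ hb
    rw [map_mul, hτp, map_one] at this
    exact this
  have he' : p (τ e') = e' := by
    calc p (τ e') = (p b * e') * p (τ e') := by rw [hb, one_mul]
      _ = e' * p (b * τ e') := by rw [map_mul]; ring
      _ = e' := by rw [h1, map_one, mul_one]
  rw [← ha, map_mul, hτp, map_mul, he']

end Alg

section Sec

variable {X C : Scheme.{u}}

lemma appLE_of_eq_id (f : C ⟶ C) (hf : f = 𝟙 C) (W : C.Opens) (h : W ≤ f ⁻¹ᵁ W) :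
    f.appLE W W h = 𝟙 _ := by
  subst hf
  have h0 : (𝟙 C : C ⟶ C).appLE W W h =
      (𝟙 C : C ⟶ C).app W ≫ C.presheaf.map (homOfLE h).op := rfl
  rw [h0]
  first
    | exact (Category.id_comp _).trans (C.presheaf.map_id (op W))
    | simp

lemma exists_gen (π : X ⟶ C) (V : C.Opens)
    (e : Γ((Scheme.Modules.pushforward π).obj (unitMod X), V))
    (he : IsBasisOver ((Scheme.Modules.pushforward π).obj (unitMod X)) V e) :
    ∃ e' : Γ(X, π ⁻¹ᵁ V), ∀ t : Γ(X, π ⁻¹ᵁ V), ∃ a : Γ(C, V), (π.app V).hom a * e' = t := by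
  refine ⟨((Scheme.Modules.pushforward π).obj (unitMod X)).presheaf.map
    (homOfLE (le_refl V)).op e, fun t => ?_⟩
  obtain ⟨a, ha⟩ := (he V le_rfl).2 t
  exact ⟨a, ha⟩

/-- if `π` has a section and `π_* O_X` is invertible then `O_C → π_* O_X` is surjective on all
opens. -/
theorem app_surjective_of_section [IsIntegral X] (π : X ⟶ C) (σ : C ⟶ X) (hσ : σ ≫ π = 𝟙 C)
    (hE : PicF.IsInvertible ((Scheme.Modules.pushforward π).obj (unitMod X))) (U : C.Opens) :
    Function.Surjective (π.app U).hom := by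
  intro s
  have hσx : ∀ z : C, π (σ z) = z := fun z => by
    have h := congrArg (fun f : C ⟶ C => f z) hσ
    simpa using h
  by_cases hU : (U : Set C).Nonempty
  swap
  · have hbot : π ⁻¹ᵁ U = ⊥ := by
      ext x'
      constructor
      · intro hx'
        exact (hU ⟨π x', hx'⟩).elim
      · intro hx'
        exact hx'.elim
    haveI : Subsingleton Γ(X, π ⁻¹ᵁ U) := by
      rw [hbot]
      infer_instance
    exact ⟨0, Subsingleton.elim _ _⟩
  obtain ⟨x, hxU⟩ := hU
  obtain ⟨V₀, e₀, hxV₀, he₀⟩ := (isInvertible_iff_exists_isBasisOver _).mp hE x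
  obtain ⟨V, hVU, hxV, e', hgen⟩ : ∃ V : C.Opens, V ≤ U ∧ x ∈ V ∧ ∃ e' : Γ(X, π ⁻¹ᵁ V),
      ∀ t : Γ(X, π ⁻¹ᵁ V), ∃ a : Γ(C, V), (π.app V).hom a * e' = t :=
    ⟨V₀ ⊓ U, inf_le_right, ⟨hxV₀, hxU⟩, exists_gen π _ _ (he₀.mono inf_le_left)⟩
  have hU' : U ≤ σ ⁻¹ᵁ (π ⁻¹ᵁ U) := fun z hz => by
    show π (σ z) ∈ U
    rw [hσx]; exact hz
  have hV' : V ≤ σ ⁻¹ᵁ (π ⁻¹ᵁ V) := fun z hz => by
    show π (σ z) ∈ V
    rw [hσx]; exact hz
  have hτπ : ∀ (W : C.Opens) (hW : W ≤ σ ⁻¹ᵁ (π ⁻¹ᵁ W)) (a : Γ(C, W)),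
      (σ.appLE (π ⁻¹ᵁ W) W hW).hom ((π.app W).hom a) = a := by
    intro W hW a
    have h1 : π.app W ≫ σ.appLE (π ⁻¹ᵁ W) W hW = (σ ≫ π).appLE W W hW :=
      (Scheme.Hom.comp_appLE σ π W W hW).symm
    have h2 : (σ ≫ π).appLE W W hW = 𝟙 _ := appLE_of_eq_id _ hσ W hW
    exact congrArg (fun f => f.hom a) (h1.trans h2)
  refine ⟨(σ.appLE (π ⁻¹ᵁ U) U hU').hom s, ?_⟩
  -- restriction maps
  let j : π ⁻¹ᵁ V ⟶ π ⁻¹ᵁ U := (Opens.map π.base).map (homOfLE hVU)
  haveI : Nonempty (π ⁻¹ᵁ V) := ⟨⟨σ x, by show π (σ x) ∈ V; rw [hσx]; exact hxV⟩⟩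
  have hrinj : Function.Injective (X.presheaf.map j.op).hom := map_injective_of_isIntegral X j
  apply hrinj
  have hcomp : ∀ t : Γ(X, π ⁻¹ᵁ U), (σ.appLE (π ⁻¹ᵁ V) V hV').hom ((X.presheaf.map j.op).hom t) =
      (C.presheaf.map (homOfLE hVU).op).hom ((σ.appLE (π ⁻¹ᵁ U) U hU').hom t) := by
    intro t
    have h1 := Scheme.Hom.map_appLE σ hV' j.op
    have h2 := Scheme.Hom.appLE_map σ hU' (homOfLE hVU).op
    exact congrArg (fun f => f.hom t) (h1.trans h2.symm)
  have hπr : ∀ a : Γ(C, U), (X.presheaf.map j.op).hom ((π.app U).hom a) =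
      (π.app V).hom ((C.presheaf.map (homOfLE hVU).op).hom a) := by
    intro a
    have := π.naturality (homOfLE hVU).op
    exact (congrArg (fun f => f.hom a) this).symm
  rw [hπr, ← hcomp s]
  exact retract_of_gen (π.app V).hom (σ.appLE (π ⁻¹ᵁ V) V hV').hom (hτπ V hV') e' hgen _

end Sec

section Main

variable (k : Type u) [Field k] [IsAlgClosed k]
  (X : Scheme.{u}) [X.Over (Spec (CommRingCat.of k))] [IsProper (X ↘ Spec (CommRingCat.of k))]
  [IsIntegral X]
  (C : Scheme.{u}) [C.Over (Spec (CommRingCat.of k))] [IsProper (C ↘ Spec (CommRingCat.of k))]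
  [IsIntegral C]

set_option maxHeartbeats 1600000 in
/-- **the direct images of an invertible module of nonnegative fibre degree on a ruled surface.** -/
theorem ruled_push (hdim : topologicalKrullDim X = 2)
    (hreg : ∀ x : X, IsRegularLocalRing (X.presheaf.stalk x))
    (hdimC : topologicalKrullDim C = 1)
    (hregC : ∀ x : C, IsRegularLocalRing (C.presheaf.stalk x))
    (π : X ⟶ C) (hπ : π ≫ (C ↘ Spec (CommRingCat.of k)) = (X ↘ Spec (CommRingCat.of k)))
    (hsurj : Function.Surjective π)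
    (hfib : ∀ y : C, IsClosed ({y} : Set C) →
      Nonempty (pullback π (C.fromSpecResidueField y) ≅ CohB1.ProjSpace 1 k))
    [HasInjectiveResolutions X.Modules] (L : X.Modules) (hL : PicF.IsInvertible L)
    (hdeg : ∀ (y : C) (hy : IsClosed ({y} : Set C)), FGA.intNum k X 2 ![L, ClSub.idealMod
      ((Scheme.IdealSheafData.vanishingIdeal ⟨{y}, hy⟩).comap π)] (Coh.structureModule X) ≤ 0) :
    (∀ p : ℕ, 0 < p → IsZero ((Coh.Rpush π p).obj L)) ∧
      ∀ i : ℕ, Nonempty (Coh.HH X L i ≃ₗ[k] Coh.HH C ((Coh.push π).obj L) i) := by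
  classical
  haveI : π.IsOver (Spec (CommRingCat.of k)) := ⟨hπ⟩
  haveI : IsProper π := isProper_of_over k π
  haveI := Curve.isLocallyNoetherian k X
  haveI := Curve.isLocallyNoetherian k C
  haveI : CompactSpace X :=
    QuasiCompact.compactSpace_of_compactSpace (X ↘ Spec (CommRingCat.of k))
  haveI : CompactSpace C :=
    QuasiCompact.compactSpace_of_compactSpace (C ↘ Spec (CommRingCat.of k))
  haveI := nontrivial_of_dim_one hdimC
  haveI : Flat π := flat_to_regular_curve hdimC.le hregC π hsurj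
  have hLc : Coh.IsCoh L := Snap.isCoh_of_isInvertible hL
  have hfl := Groth.Agent.H2.See.isFlatOver_of_isInvertible π L hL
  have hR1 : IsZero ((Coh.Rpush π 1).obj L) := by
    apply isZero_of_locally_isZero_restrict
    intro c
    obtain ⟨y, hyc, hy⟩ := (isClosed_closure (s := ({c} : Set C))).exists_closed_singleton
      ⟨c, subset_closure rfl⟩
    have hspec : c ⤳ y := specializes_iff_mem_closure.mpr hyc
    obtain ⟨φ⟩ := hfib y hy
    obtain ⟨hsub, -⟩ := fibre_cohomology k X C hdim hreg hdimC hregC π hπ hsurj y hy φ L hL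
      (-(FGA.intNum k X 2 ![L, ClSub.idealMod
        ((Scheme.IdealSheafData.vanishingIdeal ⟨{y}, hy⟩).comap π)]
        (Coh.structureModule X))).toNat
      (by
        have h := hdeg y hy
        rw [Int.toNat_of_nonneg (by linarith)]
        ring)
    obtain ⟨U, hyU, hz⟩ := Groth.Agent.S2385.result π L hLc hfl y 1 hsub
    exact ⟨U, hspec.mem_open U.2 hyU, hz⟩
  have hfibdim : ∀ y : C, topologicalKrullDim ↥(π.fiber y) ≤ ((1 : ℕ) : WithBot ℕ∞) :=
    fun y => fiber_dim_le_of_surjective 1 hdim π (π.isClosedMap) hsurj y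
  have hR : ∀ p : ℕ, 0 < p → IsZero ((Coh.Rpush π p).obj L) := by
    intro p hp
    rcases Nat.lt_or_ge 1 p with h | h
    · exact Groth.Agent.LD.XS.RD.isZero_Rpush_of_fiber_dim π 1 hfibdim L hLc p h
    · have : p = 1 := by omega
      subst this
      exact hR1
  have hc : ∀ q p : ℕ, 1 ≤ q →
      Module.finrank k (Coh.HH C ((Coh.Rpush π q).obj L) p) ≤ 0 := by
    intro q p hq
    haveI := CL.subsingleton_HH_of_isZero (hR q hq) p
    rw [Module.finrank_zero_of_subsingleton]
  have e0 : (Coh.Rpush π 0).obj L ≅ (Scheme.Modules.pushforward π).obj L :=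
    (Functor.rightDerivedZeroIsoSelf (Scheme.Modules.pushforward π)).app L
  have hVc : Coh.IsCoh ((Scheme.Modules.pushforward π).obj L) :=
    isCoh_of_iso e0 (RS.isCoh_Rpush π Groth.Agent.H6.HC.finCoh L hLc 0)
  refine ⟨hR, fun i => ?_⟩
  obtain ⟨a1, a2⟩ := leray_close k π hLc 0 hc i
  haveI := Groth.Agent.S0002.result k X L hLc i
  haveI := Groth.Agent.S0002.result k C _ hVc i
  have heq : Module.finrank k (Coh.HH X L i) =
      Module.finrank k (Coh.HH C ((Scheme.Modules.pushforward π).obj L) i) := by omega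
  exact ⟨LinearEquiv.ofFinrankEq _ _ heq⟩

set_option maxHeartbeats 1600000 in
/-- **the direct image of an invertible module of fibre degree `n` on a ruled surface is a vector
bundle of rank `n + 1`.** -/
theorem ruled_push_rank (hdim : topologicalKrullDim X = 2)
    (hreg : ∀ x : X, IsRegularLocalRing (X.presheaf.stalk x))
    (hdimC : topologicalKrullDim C = 1)
    (hregC : ∀ x : C, IsRegularLocalRing (C.presheaf.stalk x))
    (π : X ⟶ C) (hπ : π ≫ (C ↘ Spec (CommRingCat.of k)) = (X ↘ Spec (CommRingCat.of k)))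
    (hsurj : Function.Surjective π)
    (hfib : ∀ y : C, IsClosed ({y} : Set C) →
      Nonempty (pullback π (C.fromSpecResidueField y) ≅ CohB1.ProjSpace 1 k))
    [HasInjectiveResolutions X.Modules] (n : ℕ) (L : X.Modules) (hL : PicF.IsInvertible L)
    (hdeg : ∀ (y : C) (hy : IsClosed ({y} : Set C)), FGA.intNum k X 2 ![L, ClSub.idealMod
      ((Scheme.IdealSheafData.vanishingIdeal ⟨{y}, hy⟩).comap π)] (Coh.structureModule X) =
        -(n : ℤ)) :
    FlatMod.IsFinLocFreeOfRank (n + 1) ((Coh.push π).obj L) := by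
  classical
  haveI : π.IsOver (Spec (CommRingCat.of k)) := ⟨hπ⟩
  haveI : IsProper π := isProper_of_over k π
  haveI := Curve.isLocallyNoetherian k X
  haveI := Curve.isLocallyNoetherian k C
  haveI : CompactSpace C :=
    QuasiCompact.compactSpace_of_compactSpace (C ↘ Spec (CommRingCat.of k))
  haveI : Flat π := flat_to_regular_curve hdimC.le hregC π hsurj
  have hLc : Coh.IsCoh L := Snap.isCoh_of_isInvertible hL
  have hfl := Groth.Agent.H2.See.isFlatOver_of_isInvertible π L hL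
  obtain ⟨hR, -⟩ := ruled_push k X C hdim hreg hdimC hregC π hπ hsurj hfib L hL
    (fun y hy => by rw [hdeg y hy]; omega)
  obtain ⟨-, hfree⟩ := Groth.Agent.S2390.result π L hLc hfl hR
  intro c
  obtain ⟨y, hyc, hy⟩ := (isClosed_closure (s := ({c} : Set C))).exists_closed_singleton
    ⟨c, subset_closure rfl⟩
  have hspec : c ⤳ y := specializes_iff_mem_closure.mpr hyc
  obtain ⟨φ⟩ := hfib y hy
  obtain ⟨-, hrk⟩ := fibre_cohomology k X C hdim hreg hdimC hregC π hπ hsurj y hy φ L hL n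
    (hdeg y hy)
  obtain ⟨U, hyU, ⟨e⟩⟩ := hfree y
  rw [hrk] at e
  exact ⟨U, hspec.mem_open U.2 hyU, ⟨e⟩⟩

set_option maxHeartbeats 1600000 in
/-- **`π_* O_X = O_C` on a ruled surface with a section.** -/
theorem ruled_app_bijective (hdim : topologicalKrullDim X = 2)
    (hreg : ∀ x : X, IsRegularLocalRing (X.presheaf.stalk x))
    (hdimC : topologicalKrullDim C = 1)
    (hregC : ∀ x : C, IsRegularLocalRing (C.presheaf.stalk x))
    (π : X ⟶ C) (hπ : π ≫ (C ↘ Spec (CommRingCat.of k)) = (X ↘ Spec (CommRingCat.of k)))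
    (hsurj : Function.Surjective π)
    (hfib : ∀ y : C, IsClosed ({y} : Set C) →
      Nonempty (pullback π (C.fromSpecResidueField y) ≅ CohB1.ProjSpace 1 k))
    (σ : C ⟶ X) (hσ : σ ≫ π = 𝟙 C)
    [HasInjectiveResolutions X.Modules] (U : C.Opens) :
    Function.Bijective (π.app U).hom := by
  haveI : IsDominant π := ⟨hsurj.denseRange⟩
  have hgen := (H5Dom.dominant_iff_generic π).mp inferInstance
  have hd : topologicalKrullDim X ≤ ((2 : ℕ) : WithBot ℕ∞) := le_of_eq hdim
  refine ⟨Groth.Agent.H5.Gro.HypDom.app_injective_of_dominant π hgen U, ?_⟩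
  have hrank := ruled_push_rank k X C hdim hreg hdimC hregC π hπ hsurj hfib 0
    (Coh.structureModule X) (isInvertible_unit X)
    (fun y hy => by
      rw [intNum_unit_left k hd _ (isInvertible_idealMod_fibre k X C hdimC hregC π hsurj y hy)]
      simp)
  have hE : PicF.IsInvertible ((Scheme.Modules.pushforward π).obj (unitMod X)) :=
    (isInvertible_iff _).mpr hrank
  exact app_surjective_of_section π σ hσ hE U

end Main

end Groth.Agent.H5.Hyper
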