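import Mathlib
import Groth.Agent.Lib.Helper5.Hyper.Ruled3

/-!
# Ruled surfaces: `q(X) = g(C)` and `p_g(X) = 0` (helper5; S11346)
-/

set_option autoImplicit false
universe u
open CategoryTheory CategoryTheory.Limits AlgebraicGeometry TopologicalSpace Opposite

namespace Groth.Agent.H5.Hyper

open Groth.Agent.LD Groth.Agent.LD.QC Groth.Agent.H5.Curve2 Groth.Agent.H5.Curve4
  Groth.Agent.H5.Curve6 Groth.Agent.H5.DegC Groth.Agent.H5.Snap Groth.Agent.H5.NegCfg
  Groth.Agent.H5.IntN Groth.Agent.H5.Gro Groth.Agent.LD.RRS.Kit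

variable (k : Type u) [Field k] [IsAlgClosed k]
  (X : Scheme.{u}) [X.Over (Spec (CommRingCat.of k))] [IsProper (X ↘ Spec (CommRingCat.of k))]
  [IsIntegral X]
  (C : Scheme.{u}) [C.Over (Spec (CommRingCat.of k))] [IsProper (C ↘ Spec (CommRingCat.of k))]
  [IsIntegral C]

set_option maxHeartbeats 1600000 in
/-- **the irregularity and geometric genus of a ruled surface.** -/
theorem ruled_irregularity (hdim : topologicalKrullDim X = 2)
    (hreg : ∀ x : X, IsRegularLocalRing (X.presheaf.stalk x))
    (hdimC : topologicalKrullDim C = 1)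
    (hregC : ∀ x : C, IsRegularLocalRing (C.presheaf.stalk x))
    (π : X ⟶ C) (hπ : π ≫ (C ↘ Spec (CommRingCat.of k)) = (X ↘ Spec (CommRingCat.of k)))
    (hsurj : Function.Surjective π)
    (hfib : ∀ y : C, IsClosed ({y} : Set C) →
      Nonempty (pullback π (C.fromSpecResidueField y) ≅ CohB1.ProjSpace 1 k))
    (σ : C ⟶ X) (hσ : σ ≫ π = 𝟙 C) :
    Module.finrank k (Coh.HH X (Coh.structureModule X) 1) = Curv2.genus k C ∧
      Subsingleton (Coh.HH X (Coh.structureModule X) 2) := by
  classical
  haveI := QCQS.hasInjRes X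
  haveI := Curve.isLocallyNoetherian k X
  haveI := Curve.isLocallyNoetherian k C
  have hd : topologicalKrullDim X ≤ ((2 : ℕ) : WithBot ℕ∞) := le_of_eq hdim
  obtain ⟨-, hiso⟩ := ruled_push k X C hdim hreg hdimC hregC π hπ hsurj hfib
    (Coh.structureModule X) (isInvertible_unit X)
    (fun y hy => le_of_eq (intNum_unit_left k hd _
      (isInvertible_idealMod_fibre k X C hdimC hregC π hsurj y hy)))
  haveI : IsIso (ClSub.unitToPush π) := by
    apply isIso_of_bijective_app
    intro W
    exact ruled_app_bijective k X C hdim hreg hdimC hregC π hπ hsurj hfib σ hσ W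
  have e : Coh.structureModule C ≅
      (Scheme.Modules.pushforward π).obj (Coh.structureModule X) := asIso (ClSub.unitToPush π)
  refine ⟨?_, ?_⟩
  · obtain ⟨e1⟩ := hiso 1
    rw [e1.finrank_eq]
    unfold Curv2.genus
    exact (Curve2.finrank_HH_iso k C e 1).symm
  · obtain ⟨e2⟩ := hiso 2
    haveI : (Coh.structureModule C).IsQuasicoherent := (Groth.Agent.LD.PF.isCoh_unitMod C).1
    haveI := Curve.subsingleton_HH_of_two_le k C hdimC.le (Coh.structureModule C) 2 le_rfl
    haveI : Subsingleton (Coh.HH C ((Scheme.Modules.pushforward π).obj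
        (Coh.structureModule X)) 2) := (CL.HHisoEquiv k e 2).symm.toEquiv.subsingleton
    exact e2.toEquiv.subsingleton

end Groth.Agent.H5.Hyper
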